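import Groth.Prelude.Def_FilD
import Mathlib.CategoryTheory.Abelian.Refinements
import Mathlib.CategoryTheory.Limits.Preserves.Shapes.Kernels

/-!
Finite filtered objects: strictness and exactness of graded pieces, up to refinements.
-/

set_option autoImplicit false
set_option linter.unusedSectionVars false
set_option linter.style.haveILetI false
universe v u

open CategoryTheory CategoryTheory.Limits Opposite

namespace Groth.Agent.FilInjLib

set_option backward.isDefEq.respectTransparency.types false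

variable {A : Type u} [Category.{v} A] [Abelian A]

/-- The transition map `F q ⟶ F p` for `p ≤ q`. -/
abbrev tr (F : ℤᵒᵖ ⥤ A) {p q : ℤ} (h : p ≤ q) : F.obj (op q) ⟶ F.obj (op p) := F.map (homOfLE h).op

theorem tr_tr (F : ℤᵒᵖ ⥤ A) {p q r : ℤ} (h : p ≤ q) (h' : q ≤ r) :
    tr F h' ≫ tr F h = tr F (h.trans h') := by
  rw [← F.map_comp]; rfl

theorem tr_refl (F : ℤᵒᵖ ⥤ A) (p : ℤ) : tr F (le_refl p) = 𝟙 _ := F.map_id _

theorem tr_nat {F G : ℤᵒᵖ ⥤ A} (φ : F ⟶ G) {p q : ℤ} (h : p ≤ q) :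
    tr F h ≫ φ.app (op p) = φ.app (op q) ≫ tr G h := φ.naturality _

theorem mono_tr (F : FilD.FilF A) {p q : ℤ} (h : p ≤ q) : Mono (tr F.obj h) := F.property.1 _

/-- The step `F (p+1) ⟶ F p`. -/
abbrev stp (F : ℤᵒᵖ ⥤ A) (p : ℤ) : F.obj (op (p + 1)) ⟶ F.obj (op p) :=
  tr F (Int.le_add_one le_rfl)

/-- The projection to the graded piece. -/
noncomputable def grπ (F : ℤᵒᵖ ⥤ A) (p : ℤ) : F.obj (op p) ⟶ (FilD.gr A p).obj F :=
  cokernel.π (stp F p)

instance (F : ℤᵒᵖ ⥤ A) (p : ℤ) : Epi (grπ F p) :=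
  inferInstanceAs (Epi (cokernel.π (stp F p)))

theorem stp_grπ (F : ℤᵒᵖ ⥤ A) (p : ℤ) : stp F p ≫ grπ F p = 0 := cokernel.condition _

theorem grπ_map {F G : ℤᵒᵖ ⥤ A} (φ : F ⟶ G) (p : ℤ) :
    grπ F p ≫ (FilD.gr A p).map φ = φ.app (op p) ≫ grπ G p := cokernel.π_desc _ _ _

theorem exists_of_grπ_zero (F : ℤᵒᵖ ⥤ A) (p : ℤ) {T : A} (x : T ⟶ F.obj (op p)) (h : x ≫ grπ F p = 0) :
    ∃ (T' : A) (π : T' ⟶ T) (_ : Epi π) (x' : T' ⟶ F.obj (op (p + 1))), π ≫ x = x' ≫ stp F p :=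
  (ShortComplex.exact_iff_exact_up_to_refinements (ShortComplex.mk _ _ (stp_grπ F p))).1
    (ShortComplex.exact_of_g_is_cokernel _ (cokernelIsCokernel (stp F p))) x h

theorem exists_grπ_lift (F : ℤᵒᵖ ⥤ A) (p : ℤ) {T : A} (z : T ⟶ (FilD.gr A p).obj F) :
    ∃ (T' : A) (π : T' ⟶ T) (_ : Epi π) (x : T' ⟶ F.obj (op p)), π ≫ z = x ≫ grπ F p :=
  surjective_up_to_refinements_of_epi (grπ F p) z

/-- Strictness, up to refinements: an element of `G q` coming from `F p` comes from `F q`. -/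
def Strict {F G : FilD.FilF A} (φ : F ⟶ G) : Prop :=
  ∀ ⦃p q : ℤ⦄ (h : p ≤ q) ⦃T : A⦄ (y : T ⟶ G.obj.obj (op q)) (x : T ⟶ F.obj.obj (op p)),
    x ≫ φ.hom.app (op p) = y ≫ tr G.obj h →
      ∃ (T' : A) (π : T' ⟶ T) (_ : Epi π) (x' : T' ⟶ F.obj.obj (op q)),
        x' ≫ φ.hom.app (op q) = π ≫ y

theorem strict_iff {F G : FilD.FilF A} (φ : F ⟶ G) : FilD.IsStrict φ ↔ Strict φ := by
  constructor
  · intro hφ p q h T y x hxy
    haveI := mono_tr G h
    have hf : (imageSubobject (φ.hom.app (op q) ≫ tr G.obj h)).Factors (y ≫ tr G.obj h) := by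
      rw [hφ p q h, Subobject.inf_factors]
      exact ⟨hxy ▸ imageSubobject_factors_comp_self _ _, Subobject.factors_iff _ _ |>.2 (by
        exact ⟨y ≫ (Subobject.underlyingIso (tr G.obj h)).inv, by simp⟩)⟩
    obtain ⟨T', π, hπ, x', hx'⟩ := surjective_up_to_refinements_of_epi
      (factorThruImageSubobject (φ.hom.app (op q) ≫ tr G.obj h)) (Subobject.factorThru _ _ hf)
    refine ⟨T', π, hπ, x', ?_⟩
    rw [← cancel_mono (tr G.obj h), Category.assoc, Category.assoc,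
      ← imageSubobject_arrow_comp (φ.hom.app (op q) ≫ tr G.obj h), ← Category.assoc, ← hx',
      Category.assoc, Subobject.factorThru_arrow]
  · intro hφ p q h
    haveI := mono_tr G h
    refine le_antisymm (le_inf ?_ ?_) ?_
    · exact imageSubobject_le _ (tr F.obj h ≫ factorThruImageSubobject _)
        (by rw [Category.assoc, imageSubobject_arrow_comp, tr_nat])
    · exact imageSubobject_le _ (φ.hom.app (op q) ≫ (Subobject.underlyingIso (tr G.obj h)).inv) (by simp)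
    · let W := imageSubobject (φ.hom.app (op p)) ⊓ Subobject.mk (tr G.obj h)
      have h1 : (imageSubobject (φ.hom.app (op p))).Factors W.arrow :=
        Subobject.factors_of_le _ inf_le_left (Subobject.factors_self W)
      have h2 : (Subobject.mk (tr G.obj h)).Factors W.arrow :=
        Subobject.factors_of_le _ inf_le_right (Subobject.factors_self W)
      obtain ⟨y, hy⟩ : ∃ y, y ≫ tr G.obj h = W.arrow :=
        ⟨Subobject.factorThru _ _ h2 ≫ (Subobject.underlyingIso _).hom, by simp⟩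
      obtain ⟨T, π, hπ, x, hx⟩ := surjective_up_to_refinements_of_epi
        (factorThruImageSubobject (φ.hom.app (op p))) (Subobject.factorThru _ _ h1)
      have hx' : x ≫ φ.hom.app (op p) = (π ≫ y) ≫ tr G.obj h := by
        rw [Category.assoc, hy, ← imageSubobject_arrow_comp (φ.hom.app (op p)), ← Category.assoc,
          ← hx, Category.assoc, Subobject.factorThru_arrow]
      obtain ⟨T', π', hπ', x', hx''⟩ := hφ h (π ≫ y) x hx'
      let I := imageSubobject (φ.hom.app (op q) ≫ tr G.obj h)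
      have h0 : W.arrow ≫ cokernel.π I.arrow = 0 := by
        rw [← cancel_epi (π' ≫ π), comp_zero, ← hy]
        have e : (π' ≫ π) ≫ (y ≫ tr G.obj h) ≫ cokernel.π I.arrow =
            x' ≫ (φ.hom.app (op q) ≫ tr G.obj h) ≫ cokernel.π I.arrow := by
          simp only [← Category.assoc, hx'']
        rw [e, show (φ.hom.app (op q) ≫ tr G.obj h) ≫ cokernel.π I.arrow = 0 from
          (congrArg (· ≫ cokernel.π I.arrow)
            (imageSubobject_arrow_comp (φ.hom.app (op q) ≫ tr G.obj h)).symm).trans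
              (by rw [Category.assoc, cokernel.condition, comp_zero]), comp_zero]
      exact Subobject.le_of_comm (Abelian.monoLift I.arrow W.arrow h0) (Abelian.monoLift_comp _ _ _)

/-- If `gr K ⟶ gr X ⟶ gr Y` is exact for all `p`, an element of `X p` mapping into `Y q` is the sum
of an element coming from `K p` and an element of `X q`. -/
theorem exists_decomp {K : ℤᵒᵖ ⥤ A} {X Y : FilD.FilF A} (f : K ⟶ X.obj) (g : X.obj ⟶ Y.obj)
    (w : f ≫ g = 0)
    (hgr : ∀ p : ℤ, ((ShortComplex.mk f g w).map (FilD.gr A p)).Exact)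
    {p q : ℤ} (h : p ≤ q) : ∀ {T : A} (x : T ⟶ X.obj.obj (op p)) (y : T ⟶ Y.obj.obj (op q)),
      x ≫ g.app (op p) = y ≫ tr Y.obj h →
      ∃ (T' : A) (π : T' ⟶ T) (_ : Epi π) (k : T' ⟶ K.obj (op p)) (x' : T' ⟶ X.obj.obj (op q)),
        π ≫ x = k ≫ f.app (op p) + x' ≫ tr X.obj h := by
  induction q, h using Int.le_induction with
  | base => intro T x y _; exact ⟨T, 𝟙 T, inferInstance, 0, x, by simp [tr_refl]⟩
  | succ q h ih =>
    intro T x y hxy
    obtain ⟨T₁, π₁, hπ₁, k, x₁, h₁⟩ := ih x (y ≫ stp Y.obj q)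
      (by rw [Category.assoc, tr_tr]; exact hxy)
    have h₂ : x₁ ≫ g.app (op q) = (π₁ ≫ y) ≫ stp Y.obj q := by
      haveI := mono_tr Y h
      rw [← cancel_mono (tr Y.obj h)]
      have e := congrArg (· ≫ g.app (op p)) h₁
      simp only [Preadditive.add_comp, Category.assoc] at e ⊢
      have hw : f.app (op p) ≫ g.app (op p) = 0 := by rw [← NatTrans.comp_app, w]; simp
      rw [hw, comp_zero, zero_add, hxy, tr_nat] at e
      rw [← e, tr_tr]
    have h₃ : (x₁ ≫ grπ X.obj q) ≫ (FilD.gr A q).map g = 0 := by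
      rw [Category.assoc, grπ_map, ← Category.assoc, h₂, Category.assoc, stp_grπ, comp_zero]
    obtain ⟨T₂, π₂, hπ₂, z, hz⟩ :=
      ((ShortComplex.exact_iff_exact_up_to_refinements _).1 (hgr q)) (x₁ ≫ grπ X.obj q) h₃
    obtain ⟨T₃, π₃, hπ₃, k', hk'⟩ := exists_grπ_lift K q z
    have h₄ : (π₃ ≫ π₂ ≫ x₁ - k' ≫ f.app (op q)) ≫ grπ X.obj q = 0 := by
      rw [Preadditive.sub_comp, Category.assoc k', ← grπ_map f q, ← Category.assoc k', ← hk',
        sub_eq_zero]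
      simp only [Category.assoc]
      exact congrArg (π₃ ≫ ·) hz
    obtain ⟨T₄, π₄, hπ₄, x', hx'⟩ := exists_of_grπ_zero X.obj q _ h₄
    refine ⟨T₄, π₄ ≫ π₃ ≫ π₂ ≫ π₁, inferInstance, π₄ ≫ π₃ ≫ π₂ ≫ k + π₄ ≫ k' ≫ tr K h, x', ?_⟩
    have h₅ := congrArg (· ≫ tr X.obj h) hx'
    simp only [Preadditive.comp_sub, Preadditive.sub_comp, Category.assoc, tr_tr] at h₅
    simp only [Category.assoc, h₁, Preadditive.comp_add, Preadditive.add_comp, tr_nat f h]
    rw [← h₅]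
    abel

/-- The filtration vanishes in large degrees. -/
theorem exists_large (F : FilD.FilF A) (p : ℤ) : ∃ q, p ≤ q ∧ IsZero (F.obj.obj (op q)) := by
  obtain ⟨b, hb⟩ := F.property.2.1
  exact ⟨max p b, le_max_left _ _, hb _ (le_max_right _ _)⟩

theorem strict_of_exact_gr {K : ℤᵒᵖ ⥤ A} {X Y : FilD.FilF A} (f : K ⟶ X.obj) (g : X ⟶ Y)
    (w : f ≫ g.hom = 0) (hgr : ∀ p : ℤ, ((ShortComplex.mk f g.hom w).map (FilD.gr A p)).Exact) :
    Strict g := by
  intro p q h T y x hxy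
  obtain ⟨T', π, hπ, k, x', h₁⟩ := exists_decomp f g.hom w hgr h x y hxy
  refine ⟨T', π, hπ, x', ?_⟩
  haveI := mono_tr Y h
  rw [← cancel_mono (tr Y.obj h)]
  have e := congrArg (· ≫ g.hom.app (op p)) h₁
  have hw : f.app (op p) ≫ g.hom.app (op p) = 0 := by rw [← NatTrans.comp_app, w]; simp
  simp only [Preadditive.add_comp, Category.assoc, hw, comp_zero, zero_add, hxy, tr_nat] at e ⊢
  exact e.symm

theorem exact_level_of_exact_gr {K : ℤᵒᵖ ⥤ A} {X Y : FilD.FilF A} (f : K ⟶ X.obj) (g : X ⟶ Y)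
    (w : f ≫ g.hom = 0) (hgr : ∀ p : ℤ, ((ShortComplex.mk f g.hom w).map (FilD.gr A p)).Exact)
    (p : ℤ) {T : A} (x : T ⟶ X.obj.obj (op p)) (hx : x ≫ g.hom.app (op p) = 0) :
    ∃ (T' : A) (π : T' ⟶ T) (_ : Epi π) (k : T' ⟶ K.obj (op p)), π ≫ x = k ≫ f.app (op p) := by
  obtain ⟨q, h, hq⟩ := exists_large X p
  obtain ⟨T', π, hπ, k, x', h₁⟩ := exists_decomp f g.hom w hgr h x 0 (by rw [hx, zero_comp])
  exact ⟨T', π, hπ, k, by rw [h₁, hq.eq_of_tgt x' 0, zero_comp, add_zero]⟩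

theorem kernel_app_lift {F G : ℤᵒᵖ ⥤ A} (φ : F ⟶ G) (p : ℤ) {T : A} (x : T ⟶ F.obj (op p))
    (hx : x ≫ φ.app (op p) = 0) : ∃ k, k ≫ (kernel.ι φ).app (op p) = x :=
  ⟨kernel.lift (((evaluation ℤᵒᵖ A).obj (op p)).map φ) x hx ≫
      (PreservesKernel.iso ((evaluation ℤᵒᵖ A).obj (op p)) φ).inv,
    (Category.assoc _ _ _).trans ((congrArg (_ ≫ ·) (PreservesKernel.iso_inv_ι _ _)).trans
      (kernel.lift_ι _ _ _))⟩

/-- A strict map is exact on graded pieces at its source, with the levelwise kernel. -/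
theorem exact_gr_of_strict {K : ℤᵒᵖ ⥤ A} {X Y : FilD.FilF A} (f : K ⟶ X.obj) (g : X ⟶ Y)
    (w : f ≫ g.hom = 0) (hg : Strict g)
    (hex : ∀ p {T : A} (x : T ⟶ X.obj.obj (op p)), x ≫ g.hom.app (op p) = 0 →
      ∃ (T' : A) (π : T' ⟶ T) (_ : Epi π) (k : T' ⟶ K.obj (op p)), π ≫ x = k ≫ f.app (op p))
    (p : ℤ) : ((ShortComplex.mk f g.hom w).map (FilD.gr A p)).Exact := by
  rw [ShortComplex.exact_iff_exact_up_to_refinements]
  intro T z₀ hz
  obtain ⟨z, rfl⟩ : ∃ z : T ⟶ (FilD.gr A p).obj X.obj, z = z₀ := ⟨z₀, rfl⟩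
  replace hz : z ≫ (FilD.gr A p).map g.hom = 0 := hz
  obtain ⟨T₁, π₁, hπ₁, x, hx⟩ := exists_grπ_lift X.obj p z
  have h₁ : (x ≫ g.hom.app (op p)) ≫ grπ Y.obj p = 0 := by
    rw [Category.assoc, ← grπ_map, ← Category.assoc, ← hx, Category.assoc, hz, comp_zero]
  obtain ⟨T₂, π₂, hπ₂, y, hy⟩ := exists_of_grπ_zero Y.obj p _ h₁
  obtain ⟨T₃, π₃, hπ₃, x', hx'⟩ := hg _ y (π₂ ≫ x) (by rw [Category.assoc]; exact hy)
  obtain ⟨T₄, π₄, hπ₄, k, hk⟩ := hex p (π₃ ≫ π₂ ≫ x - x' ≫ stp X.obj p) (by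
    simp only [Preadditive.sub_comp, Category.assoc, tr_nat]
    rw [hy, ← Category.assoc x', hx', Category.assoc, sub_self])
  refine ⟨T₄, π₄ ≫ π₃ ≫ π₂ ≫ π₁, inferInstance, k ≫ grπ K p, ?_⟩
  show _ = (k ≫ grπ K p) ≫ (FilD.gr A p).map f
  rw [Category.assoc k, grπ_map, ← Category.assoc k, ← hk]
  simp only [Preadditive.comp_sub, Preadditive.sub_comp, Category.assoc, hx, stp_grπ, comp_zero, sub_zero]
  exact congrArg (fun t => π₄ ≫ π₃ ≫ π₂ ≫ t) hx

end Groth.Agent.FilInjLib
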