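import Groth.Agent.FilInjLib.Basic
import Mathlib.CategoryTheory.Preadditive.Injective.Basic
import Mathlib.CategoryTheory.Limits.Shapes.FiniteProducts

/-!
Enough filtered injective objects.
-/

set_option autoImplicit false
set_option linter.unusedSectionVars false
set_option linter.style.haveILetI false
universe v u

open CategoryTheory CategoryTheory.Limits Opposite

namespace Groth.Agent.FilInjLib

set_option backward.isDefEq.respectTransparency.types false

variable {A : Type u} [Category.{v} A] [Abelian A]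

/-- The split filtered object with `J i` placed in degree `a + i`. -/
noncomputable def splitFil (a : ℤ) (n : ℕ) (J : Fin n → A) : ℤᵒᵖ ⥤ A where
  obj q := ∏ᶜ fun i : { i : Fin n // q.unop ≤ a + (i : ℕ) } => J i.1
  map {q p} _ := Pi.lift fun i =>
    if h : q.unop ≤ a + (i.1 : ℕ) then Pi.π _ (⟨i.1, h⟩ : { i : Fin n // q.unop ≤ a + (i : ℕ) })
    else 0
  map_id q := by
    apply Pi.hom_ext
    intro i
    rw [Pi.lift_π, dif_pos i.2, Category.id_comp]
  map_comp {q p r} f g := by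
    have hpq := leOfHom f.unop
    have hrp := leOfHom g.unop
    apply Pi.hom_ext
    intro i
    rw [Category.assoc, Pi.lift_π, Pi.lift_π]
    by_cases h : q.unop ≤ a + (i.1 : ℕ)
    · rw [dif_pos h, dif_pos (hpq.trans h), Pi.lift_π, dif_pos h]
    · rw [dif_neg h]
      by_cases h' : p.unop ≤ a + (i.1 : ℕ)
      · rw [dif_pos h', Pi.lift_π, dif_neg h]
      · rw [dif_neg h', comp_zero]

/-- The projections of `splitFil`. -/
noncomputable def sπ (a : ℤ) (n : ℕ) (J : Fin n → A) (q : ℤᵒᵖ)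
    (i : { i : Fin n // q.unop ≤ a + (i : ℕ) }) : (splitFil a n J).obj q ⟶ J i.1 :=
  Pi.π (fun i : { i : Fin n // q.unop ≤ a + (i : ℕ) } => J i.1) i

/-- Maps into `splitFil`. -/
noncomputable def sLift {a : ℤ} {n : ℕ} {J : Fin n → A} {q : ℤᵒᵖ} {T : A}
    (f : ∀ i : { i : Fin n // q.unop ≤ a + (i : ℕ) }, T ⟶ J i.1) : T ⟶ (splitFil a n J).obj q :=
  Pi.lift f

theorem sLift_π {a : ℤ} {n : ℕ} {J : Fin n → A} {q : ℤᵒᵖ} {T : A}
    (f : ∀ i : { i : Fin n // q.unop ≤ a + (i : ℕ) }, T ⟶ J i.1) (i) :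
    sLift f ≫ sπ a n J q i = f i := Pi.lift_π _ _

theorem sπ_ext {a : ℤ} {n : ℕ} {J : Fin n → A} {q : ℤᵒᵖ} {T : A}
    {x y : T ⟶ (splitFil a n J).obj q} (h : ∀ i, x ≫ sπ a n J q i = y ≫ sπ a n J q i) : x = y :=
  Pi.hom_ext _ _ h

theorem splitFil_map_π {a : ℤ} {n : ℕ} {J : Fin n → A} {q p : ℤᵒᵖ} (f : q ⟶ p)
    (i : { i : Fin n // p.unop ≤ a + (i : ℕ) }) (h : q.unop ≤ a + (i.1 : ℕ)) :
    (splitFil a n J).map f ≫ sπ a n J p i = sπ a n J q ⟨i.1, h⟩ :=
  (Pi.lift_π _ _).trans (dif_pos h)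

theorem splitFil_map_π_zero {a : ℤ} {n : ℕ} {J : Fin n → A} {q p : ℤᵒᵖ} (f : q ⟶ p)
    (i : { i : Fin n // p.unop ≤ a + (i : ℕ) }) (h : ¬ q.unop ≤ a + (i.1 : ℕ)) :
    (splitFil a n J).map f ≫ sπ a n J p i = 0 :=
  (Pi.lift_π _ _).trans (dif_neg h)

theorem isFinFil_splitFil (a : ℤ) (n : ℕ) (J : Fin n → A) : FilD.IsFinFil A (splitFil a n J) := by
  refine ⟨fun q p f => ?_, ⟨a + n, fun q hq => ?_⟩, ⟨a, fun q p f hq => ?_⟩⟩
  · refine ⟨fun x y hxy => sπ_ext fun i => ?_⟩
    have := congrArg (· ≫ sπ a n J p ⟨i.1, (leOfHom f.unop).trans i.2⟩) hxy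
    simp only [Category.assoc] at this
    rwa [splitFil_map_π f _ i.2] at this
  · rw [IsZero.iff_id_eq_zero]
    refine sπ_ext fun i => ?_
    have : q ≤ a + (i.1 : ℕ) := i.2
    have := i.1.2
    omega
  · have hpq := leOfHom f.unop
    refine ⟨sLift fun i => sπ a n J p ⟨i.1, by omega⟩, ?_, ?_⟩
    · refine sπ_ext fun i => ?_
      rw [Category.assoc, sLift_π, Category.id_comp, splitFil_map_π f _ i.2]
    · refine sπ_ext fun i => ?_
      rw [Category.assoc, Category.id_comp, splitFil_map_π f i (by omega), sLift_π]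

theorem injective_gr_splitFil (a : ℤ) (n : ℕ) (J : Fin n → A) [∀ i, Injective (J i)] (p : ℤ) :
    Injective ((FilD.gr A p).obj (splitFil a n J)) := by
  let P := (splitFil a n J).obj (op p)
  haveI : Injective P :=
    inferInstanceAs (Injective (∏ᶜ fun i : { i : Fin n // p ≤ a + (i : ℕ) } => J i.1))
  let r : P ⟶ (splitFil a n J).obj (op (p + 1)) :=
    sLift fun i => sπ a n J (op p) ⟨i.1, le_trans (Int.le_add_one le_rfl) i.2⟩
  have hr : stp (splitFil a n J) p ≫ r = 𝟙 _ := by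
    refine sπ_ext fun i => ?_
    rw [Category.assoc, Category.id_comp, sLift_π]
    exact splitFil_map_π (A := A) (J := J) _ ⟨i.1, le_trans (Int.le_add_one le_rfl) i.2⟩ i.2
  let s : (FilD.gr A p).obj (splitFil a n J) ⟶ P :=
    cokernel.desc _ (𝟙 P - r ≫ stp (splitFil a n J) p) (by
      show stp (splitFil a n J) p ≫ _ = 0
      rw [Preadditive.comp_sub, ← Category.assoc, hr]
      exact sub_eq_zero.2 ((Category.comp_id _).trans (Category.id_comp _).symm))
  have hs : s ≫ grπ (splitFil a n J) p = 𝟙 _ := by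
    rw [← cancel_epi (grπ (splitFil a n J) p), ← Category.assoc,
      show grπ (splitFil a n J) p ≫ s = _ from cokernel.π_desc _ _ _]
    simp [Preadditive.sub_comp, stp_grπ]
    exact Category.id_comp _
  exact ⟨fun {X Y} g f _ => ⟨Injective.factorThru (g ≫ s) f ≫ grπ (splitFil a n J) p,
    by rw [Injective.comp_factorThru_assoc, Category.assoc, hs, Category.comp_id]⟩⟩

theorem exists_envelope [EnoughInjectives A] (X : FilD.FilF A) :
    ∃ (I : FilD.FilF A) (u : X ⟶ I), FilD.IsFilteredInjective I ∧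
      (∀ p, Mono (u.hom.app (op p))) ∧ Strict u := by
  classical
  obtain ⟨a, ha⟩ := X.property.2.2
  obtain ⟨b₀, hb₀⟩ := X.property.2.1
  let b := max b₀ (a + 1)
  have hb : ∀ p, b ≤ p → IsZero (X.obj.obj (op p)) :=
    fun p hp => hb₀ p ((le_max_left _ _).trans hp)
  let n := (b - a).toNat
  have hiso : ∀ {p : ℤ} (h : p ≤ a), IsIso (tr X.obj h) := fun h => ha _ le_rfl
  let e : ∀ q : ℤ, X.obj.obj (op q) ⟶ X.obj.obj (op a) := fun q =>
    if h : a ≤ q then tr X.obj h else
      haveI := hiso (le_of_not_ge h); inv (tr X.obj (le_of_not_ge h))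
  have he : ∀ {p q : ℤ} (h : p ≤ q), tr X.obj h ≫ e p = e q := by
    intro p q h
    simp only [e]
    by_cases hp : a ≤ p
    · rw [dif_pos hp, dif_pos (hp.trans h), tr_tr]
    · rw [dif_neg hp]
      by_cases hq : a ≤ q
      · rw [dif_pos hq, IsIso.comp_inv_eq, tr_tr]
      · rw [dif_neg hq, IsIso.comp_inv_eq, IsIso.eq_inv_comp, tr_tr]
  have hemono : ∀ q, Mono (e q) := by
    intro q
    simp only [e]
    by_cases h : a ≤ q
    · rw [dif_pos h]; exact mono_tr X h
    · rw [dif_neg h]; infer_instance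
  let J : Fin n → A := fun i => Injective.under (cokernel (e (a + (i : ℕ) + 1)))
  let c : ∀ i : Fin n, X.obj.obj (op a) ⟶ J i := fun i => cokernel.π _ ≫ Injective.ι _
  let I : FilD.FilF A := ⟨splitFil a n J, isFinFil_splitFil a n J⟩
  let uapp : ∀ q : ℤᵒᵖ, X.obj.obj q ⟶ (splitFil a n J).obj q := fun q =>
    sLift fun i => e q.unop ≫ c i.1
  have huπ : ∀ (q : ℤᵒᵖ) i, uapp q ≫ sπ a n J q i = e q.unop ≫ c i.1 := fun q i => sLift_π _ _
  let u : X ⟶ I := ObjectProperty.homMk
    { app := uapp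
      naturality := fun q p f => by
        have hf : X.obj.map f = tr X.obj (leOfHom f.unop) := congrArg X.obj.map (Subsingleton.elim _ _)
        refine sπ_ext fun i => ?_
        show (X.obj.map f ≫ uapp p) ≫ _ = (uapp q ≫ (splitFil a n J).map f) ≫ _
        rw [Category.assoc, Category.assoc, huπ, ← Category.assoc, hf, he]
        by_cases h : q.unop ≤ a + (i.1 : ℕ)
        · rw [splitFil_map_π f i h, huπ]
        · rw [splitFil_map_π_zero f i h, comp_zero,
            ← he (show a + (i.1 : ℕ) + 1 ≤ q.unop by omega)]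
          simp [c] }
  -- elements of `X p` with vanishing component `r - a` come from `X (r + 1)`
  have hkey : ∀ (p r : ℤ) (i : Fin n), r = a + (i : ℕ) + 1 → p ≤ r → ∀ {T : A}
      (x : T ⟶ X.obj.obj (op p)), x ≫ e p ≫ c i = 0 →
      ∃ (hpr : p ≤ r) (z : T ⟶ X.obj.obj (op r)), z ≫ tr X.obj hpr = x := by
    intro p r i hr hpr T x hx
    subst hr
    haveI := hemono (a + (i : ℕ) + 1)
    haveI := hemono p
    have h1 : (x ≫ e p) ≫ cokernel.π (e (a + (i : ℕ) + 1)) = 0 := by
      rw [← cancel_mono (Injective.ι _), zero_comp]; simpa [c] using hx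
    refine ⟨hpr, Abelian.monoLift (e (a + (i : ℕ) + 1)) (x ≫ e p) h1, ?_⟩
    rw [← cancel_mono (e p), Category.assoc, he, Abelian.monoLift_comp]
  have hstrict : Strict u := by
    intro p q h T y x hxy
    suffices H : ∃ x' : T ⟶ X.obj.obj (op q), x' ≫ tr X.obj h = x by
      obtain ⟨x', hx'⟩ := H
      refine ⟨T, 𝟙 T, inferInstance, x', ?_⟩
      haveI := mono_tr I h
      rw [Category.id_comp, ← cancel_mono (tr I.obj h), Category.assoc, ← tr_nat, ← Category.assoc, hx',
        hxy]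
    by_cases hqa : q ≤ a
    · haveI : IsIso (tr X.obj h) := ha _ hqa
      exact ⟨x ≫ inv (tr X.obj h), by rw [Category.assoc, IsIso.inv_hom_id, Category.comp_id]⟩
    by_cases hpq : p = q
    · subst hpq
      exact ⟨x, by rw [tr_refl, Category.comp_id]⟩
    by_cases hbp : b ≤ p
    · exact ⟨0, (hb p hbp).eq_of_tgt _ _⟩
    have hab : a + 1 ≤ b := le_max_right _ _
    let r := min q b
    have hzero : ∀ i : Fin n, p ≤ a + (i : ℕ) → a + (i : ℕ) < q → x ≫ e p ≫ c i = 0 := by
      intro i hpi hiq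
      rw [← huπ (op p) ⟨i, hpi⟩, ← Category.assoc,
        show x ≫ uapp (op p) = y ≫ tr I.obj h from hxy, Category.assoc,
        splitFil_map_π_zero _ _ (by simp only; omega), comp_zero]
    obtain ⟨hpr, z, hz⟩ := hkey p r ⟨(r - 1 - a).toNat, by omega⟩ (by simp only; omega) (by omega) x
      (hzero _ (by simp only; omega) (by simp only; omega))
    by_cases hqb : q ≤ b
    · have hrq : r = q := min_eq_left hqb
      clear_value r
      subst hrq
      exact ⟨z, hz⟩
    · refine ⟨0, ?_⟩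
      rw [zero_comp, ← hz, (hb r (by omega)).eq_of_tgt z 0, zero_comp]
  have hmono : ∀ p, Mono (u.hom.app (op p)) := by
    intro p
    refine Preadditive.mono_of_cancel_zero _ fun {T} x hx => ?_
    by_cases hbp : b ≤ p
    · exact (hb p hbp).eq_of_tgt _ _
    have hab : a + 1 ≤ b := le_max_right _ _
    obtain ⟨hpr, z, hz⟩ := hkey p b ⟨(b - 1 - a).toNat, by omega⟩ (by simp only; omega) (by omega) x (by
      rw [← huπ (op p) ⟨⟨(b - 1 - a).toNat, by omega⟩, by simp only; omega⟩, ← Category.assoc,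
        show x ≫ uapp (op p) = 0 from hx, zero_comp])
    rw [← hz, (hb b le_rfl).eq_of_tgt z 0, zero_comp]
  exact ⟨I, u, fun p => injective_gr_splitFil a n J p, hmono, hstrict⟩

end Groth.Agent.FilInjLib
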