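import Groth.Agent.FilInjLib.Basic
import Mathlib.CategoryTheory.Preadditive.Injective.Basic
import Mathlib.CategoryTheory.Limits.FunctorCategory.EpiMono
import Mathlib.Algebra.Homology.ShortComplex.ShortExact

/-!
Filtered injective objects: the extension property along strict morphisms.
-/

set_option autoImplicit false
set_option linter.unusedSectionVars false
set_option linter.style.haveILetI false
universe v u

open CategoryTheory CategoryTheory.Limits Opposite

namespace Groth.Agent.FilInjLib

set_option backward.isDefEq.respectTransparency.types false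

variable {A : Type u} [Category.{v} A] [Abelian A]

theorem isFinFil_kernel {X Y : FilD.FilF A} (u : X.obj ⟶ Y.obj) : FilD.IsFinFil A (kernel u) := by
  have hm : ∀ p : ℤᵒᵖ, Mono ((kernel.ι u).app p) := fun p => inferInstance
  have hmap : ∀ ⦃p q : ℤᵒᵖ⦄ (f : p ⟶ q), Mono ((kernel u).map f) := fun p q f => by
    haveI := X.property.1 f
    haveI : Mono ((kernel u).map f ≫ (kernel.ι u).app q) := by rw [NatTrans.naturality]; infer_instance
    exact mono_of_mono _ ((kernel.ι u).app q)
  refine ⟨hmap, ?_, ?_⟩
  · obtain ⟨b, hb⟩ := X.property.2.1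
    exact ⟨b, fun p hp => IsZero.of_mono ((kernel.ι u).app (op p)) (hb p hp)⟩
  · obtain ⟨a, ha⟩ := X.property.2.2
    refine ⟨a, fun p q f hp => ?_⟩
    haveI := ha f hp
    haveI := hmap f
    haveI := Y.property.1 f
    obtain ⟨s, hs⟩ := kernel_app_lift u p.unop ((kernel.ι u).app q ≫ inv (X.obj.map f)) (by
      rw [← cancel_mono (Y.obj.map f)]
      simp only [Category.assoc, zero_comp]
      erw [← u.naturality f]
      simp only [IsIso.inv_hom_id_assoc]
      rw [← NatTrans.comp_app, kernel.condition]; simp)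
    have hs' : s ≫ (kernel u).map f = 𝟙 _ := by
      rw [← cancel_mono ((kernel.ι u).app q), Category.assoc, NatTrans.naturality, Category.id_comp,
        ← Category.assoc]
      erw [hs]
      simp
    haveI : IsSplitEpi ((kernel u).map f) := IsSplitEpi.mk' ⟨s, hs'⟩
    exact isIso_of_mono_of_epi _

theorem mono_hom {X Y : FilD.FilF A} (u : X ⟶ Y) [Mono u] : Mono u.hom := by
  let ι' : (⟨_, isFinFil_kernel u.hom⟩ : FilD.FilF A) ⟶ X := ObjectProperty.homMk (kernel.ι u.hom)
  have h : ι' = 0 := by
    rw [← cancel_mono u, zero_comp]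
    exact ObjectProperty.hom_ext _ (kernel.condition u.hom)
  exact Abelian.mono_of_kernel_ι_eq_zero _ (congrArg (fun m => m.hom) h)

theorem mono_app {X Y : FilD.FilF A} (u : X ⟶ Y) [Mono u] (p : ℤ) : Mono (u.hom.app (op p)) := by
  haveI := mono_hom u; infer_instance

theorem injective_obj {I : FilD.FilF A} (hI : FilD.IsFilteredInjective I) (p : ℤ) :
    Injective (I.obj.obj (op p)) := by
  obtain ⟨b, hb⟩ := I.property.2.1
  suffices H : ∀ (k : ℕ) (q : ℤ), b ≤ q + k → Injective (I.obj.obj (op q)) from
    H (b - p).toNat p (by omega)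
  intro k
  induction k with
  | zero => intro q hq; exact (hb q (by omega)).injective
  | succ k ih =>
    intro q hq
    haveI : Injective (I.obj.obj (op (q + 1))) := ih (q + 1) (by omega)
    haveI : Injective ((FilD.gr A q).obj I.obj) := hI q
    haveI := mono_tr I (Int.le_add_one (le_refl q))
    let S := ShortComplex.mk _ _ (stp_grπ I.obj q)
    have hS : S.ShortExact :=
      { exact := ShortComplex.exact_of_g_is_cokernel _ (cokernelIsCokernel (stp I.obj q)) }
    haveI : Injective S.X₁ := ih (q + 1) (by omega)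
    haveI : Injective S.X₃ := hI q
    exact Injective.of_iso (hS.splittingOfInjective).isoBinaryBiproduct.symm inferInstance

/-- One descending step of the extension. -/
theorem exists_factor_step {X Y I : FilD.FilF A} (φ : X ⟶ Y) (hφ : Strict φ)
    (hI : FilD.IsFilteredInjective I) (f : X ⟶ I) (p : ℤ)
    (hf : ∀ {T : A} (x : T ⟶ X.obj.obj (op p)), x ≫ φ.hom.app (op p) = 0 → x ≫ f.hom.app (op p) = 0)
    (g' : Y.obj.obj (op (p + 1)) ⟶ I.obj.obj (op (p + 1)))
    (hg' : φ.hom.app (op (p + 1)) ≫ g' = f.hom.app (op (p + 1))) :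
    ∃ g : Y.obj.obj (op p) ⟶ I.obj.obj (op p),
      φ.hom.app (op p) ≫ g = f.hom.app (op p) ∧ stp Y.obj p ≫ g = g' ≫ stp I.obj p := by
  haveI := injective_obj hI p
  let D := biprod.desc (φ.hom.app (op p)) (stp Y.obj p)
  let E := biprod.desc (f.hom.app (op p)) (g' ≫ stp I.obj p)
  have hE : kernel.ι D ≫ E = 0 := by
    have hD := kernel.condition D
    obtain ⟨x, hxdef⟩ : ∃ x, x = kernel.ι D ≫ biprod.fst := ⟨_, rfl⟩
    obtain ⟨y, hydef⟩ : ∃ y, y = kernel.ι D ≫ biprod.snd := ⟨_, rfl⟩
    have h0 : x ≫ φ.hom.app (op p) = (-y) ≫ stp Y.obj p := by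
      rw [Preadditive.neg_comp, ← add_eq_zero_iff_eq_neg]
      simpa [hxdef, hydef, D, biprod.desc_eq] using hD
    obtain ⟨T, π, hπ, x', hx'⟩ := hφ _ (-y) x h0
    have h1 : (π ≫ x - x' ≫ stp X.obj p) ≫ φ.hom.app (op p) = 0 := by
      rw [Preadditive.sub_comp, Category.assoc, h0, Category.assoc, tr_nat, ← Category.assoc x', hx',
        Category.assoc, sub_self]
    have h2 := hf _ h1
    rw [Preadditive.sub_comp, Category.assoc, Category.assoc, tr_nat, ← hg', Category.assoc,
      ← Category.assoc x', hx', Category.assoc, sub_eq_zero] at h2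
    rw [← cancel_epi π, comp_zero]
    have : kernel.ι D ≫ E = x ≫ f.hom.app (op p) + y ≫ g' ≫ stp I.obj p := by
      simp [hxdef, hydef, E, biprod.desc_eq]
    rw [this, Preadditive.comp_add, h2]
    simp
  let g := Injective.factorThru (cokernel.desc (kernel.ι D) E hE) (Abelian.factorThruCoimage D)
  have hg : D ≫ g = E := by
    conv_lhs => rw [← Abelian.coimage.fac D]
    rw [Category.assoc, Injective.comp_factorThru, cokernel.π_desc]
  exact ⟨g, by simpa [D, E] using congrArg (biprod.inl ≫ ·) hg,
    by simpa [D, E] using congrArg (biprod.inr ≫ ·) hg⟩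

/-- Extension along a strict morphism of maps into a filtered injective object. -/
theorem exists_factor {X Y I : FilD.FilF A} (φ : X ⟶ Y) (hφ : Strict φ)
    (hI : FilD.IsFilteredInjective I) (f : X ⟶ I)
    (hf : ∀ (p : ℤ) {T : A} (x : T ⟶ X.obj.obj (op p)),
      x ≫ φ.hom.app (op p) = 0 → x ≫ f.hom.app (op p) = 0) :
    ∃ g : Y ⟶ I, φ ≫ g = f := by
  classical
  obtain ⟨b, hb⟩ := Y.property.2.1
  let G : ℕ → ∀ q : ℤ, Y.obj.obj (op q) ⟶ I.obj.obj (op q) := fun k => Nat.rec (fun _ => 0)
    (fun _ G' q => if h : φ.hom.app (op (q + 1)) ≫ G' (q + 1) = f.hom.app (op (q + 1)) then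
      (exists_factor_step φ hφ hI f q (hf q) _ h).choose else 0) k
  have hG : ∀ (k : ℕ) (q : ℤ), b ≤ q + k → φ.hom.app (op q) ≫ G k q = f.hom.app (op q) := by
    intro k
    induction k with
    | zero =>
      intro q hq
      have := hf q (𝟙 _) ((hb q (by omega)).eq_of_tgt _ _)
      simp only [Category.id_comp] at this
      rw [this]; exact comp_zero
    | succ k ih =>
      intro q hq
      have h := ih (q + 1) (by omega)
      show φ.hom.app (op q) ≫ (dite _ _ _) = _
      rw [dif_pos h]
      exact (exists_factor_step φ hφ hI f q (hf q) _ h).choose_spec.1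
  let g : ∀ q : ℤ, Y.obj.obj (op q) ⟶ I.obj.obj (op q) := fun q => G (b - q).toNat q
  have hsq : ∀ q : ℤ, stp Y.obj q ≫ g q = g (q + 1) ≫ stp I.obj q := by
    intro q
    by_cases hq : q < b
    · have hk : (b - q).toNat = (b - (q + 1)).toNat + 1 := by omega
      have h := hG (b - (q + 1)).toNat (q + 1) (by omega)
      simp only [g, hk]
      show stp Y.obj q ≫ (dite _ _ _) = _
      rw [dif_pos h]
      exact (exists_factor_step φ hφ hI f q (hf q) _ h).choose_spec.2
    · exact (hb (q + 1) (by omega)).eq_of_src _ _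
  have hnat : ∀ (p q : ℤ) (h : p ≤ q), tr Y.obj h ≫ g p = g q ≫ tr I.obj h := by
    intro p q h
    induction q, h using Int.leInduction with
    | base => rw [tr_refl, tr_refl, Category.id_comp, Category.comp_id]
    | succ q h ih =>
      rw [← tr_tr Y.obj h (Int.le_add_one le_rfl), ← tr_tr I.obj h (Int.le_add_one le_rfl),
        Category.assoc, ih, ← Category.assoc, hsq, Category.assoc]
  refine ⟨ObjectProperty.homMk
    { app := fun p => g p.unop
      naturality := fun p q m => hnat q.unop p.unop (leOfHom m.unop) }, ?_⟩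
  apply ObjectProperty.hom_ext
  ext p
  exact hG _ p.unop (by omega)

end Groth.Agent.FilInjLib
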