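import Groth.Agent.FilInjLib.Single

/-!
The filtered horseshoe lemma.
-/

set_option autoImplicit false
set_option linter.unusedSectionVars false
set_option linter.style.haveILetI false
universe v u

open CategoryTheory CategoryTheory.Limits Opposite

namespace Groth.Agent.FilInjLib

set_option backward.isDefEq.respectTransparency.types false

variable {A : Type u} [Category.{v} A] [Abelian A]

/-- The inclusion of the object in degree zero. -/
noncomputable abbrev single0 (X : FilD.FilF A) :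
    X ≅ ((CochainComplex.singleFunctor (FilD.FilF A) 0).obj X).X 0 :=
  (HomologicalComplex.singleObjXSelf (ComplexShape.up ℤ) 0 X).symm

theorem single0_d (X : FilD.FilF A) (i j : ℤ) :
    ((CochainComplex.singleFunctor (FilD.FilF A) 0).obj X).d i j = 0 := rfl

theorem single0_map {X Y : FilD.FilF A} (f : X ⟶ Y) :
    (single0 X).hom ≫ ((CochainComplex.singleFunctor (FilD.FilF A) 0).map f).f 0 = f ≫ (single0 Y).hom := by
  show (single0 X).hom ≫ ((HomologicalComplex.single _ _ 0).map f).f 0 = _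
  rw [HomologicalComplex.single_map_f_self]
  exact Iso.inv_hom_id_assoc _ _

theorem single0_ext {X : FilD.FilF A} {K : CochainComplex (FilD.FilF A) ℤ}
    {f g : (CochainComplex.singleFunctor (FilD.FilF A) 0).obj X ⟶ K}
    (h : (single0 X).hom ≫ f.f 0 = (single0 X).hom ≫ g.f 0) : f = g := by
  refine HomologicalComplex.from_single_hom_ext ?_
  exact (cancel_epi (single0 X).hom).1 h

theorem single0_comp_d {X : FilD.FilF A} {K : CochainComplex (FilD.FilF A) ℤ}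
    (f : (CochainComplex.singleFunctor (FilD.FilF A) 0).obj X ⟶ K) (j : ℤ) :
    ((single0 X).hom ≫ f.f 0) ≫ K.d 0 j = 0 := by
  rw [Category.assoc, f.comm]
  rw [single0_d, zero_comp, comp_zero]

theorem horseshoe (S : ShortComplex (FilD.FilF A))
    (hS : ∀ p : ℤ, (S.map ((FilD.IsFinFil A).ι ⋙ (evaluation ℤᵒᵖ A).obj (op p))).ShortExact)
    (I : CochainComplex (FilD.FilF A) ℤ) [I.IsStrictlyGE 0] (hI : ∀ n, FilD.IsFilteredInjective (I.X n))
    (a : (CochainComplex.singleFunctor (FilD.FilF A) 0).obj S.X₁ ⟶ I)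
    (J : CochainComplex (FilD.FilF A) ℤ)
    (c : (CochainComplex.singleFunctor (FilD.FilF A) 0).obj S.X₃ ⟶ J) (hc : FilD.IsFilteredQuasiIso c) :
    ∃ (M : CochainComplex (FilD.FilF A) ℤ) (α : I ⟶ M) (β : M ⟶ J)
      (b : (CochainComplex.singleFunctor (FilD.FilF A) 0).obj S.X₂ ⟶ M),
      (∀ n, ∃ (r : M.X n ⟶ I.X n) (s : J.X n ⟶ M.X n), α.f n ≫ r = 𝟙 _ ∧ s ≫ β.f n = 𝟙 _ ∧
        α.f n ≫ β.f n = 0 ∧ r ≫ α.f n + β.f n ≫ s = 𝟙 _) ∧
      a ≫ α = (CochainComplex.singleFunctor (FilD.FilF A) 0).map S.f ≫ b ∧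
      b ≫ β = (CochainComplex.singleFunctor (FilD.FilF A) 0).map S.g ≫ c := by
  have hmono : ∀ p : ℤ, Mono (S.f.hom.app (op p)) := fun p => (hS p).mono_f
  have hepi : ∀ p : ℤ, Epi (S.g.hom.app (op p)) := fun p => (hS p).epi_g
  have hex : ∀ (p : ℤ) {T : A} (x : T ⟶ S.X₂.obj.obj (op p)), x ≫ S.g.hom.app (op p) = 0 →
      ∃ (T' : A) (π : T' ⟶ T) (_ : Epi π) (k : T' ⟶ S.X₁.obj.obj (op p)), π ≫ x = k ≫ S.f.hom.app (op p) :=
    fun p _ x hx => (ShortComplex.exact_iff_exact_up_to_refinements _).1 (hS p).exact x hx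
  have hfs : Strict S.f := by
    intro p q h T y x hxy
    have e : y ≫ S.g.hom.app (op q) = 0 := by
      haveI := mono_tr S.X₃ h
      rw [← cancel_mono (tr S.X₃.obj h), zero_comp, Category.assoc, ← tr_nat, ← Category.assoc, ← hxy,
        Category.assoc, ← app_comp, S.zero, app_zero, comp_zero]
    obtain ⟨T', π, hπ, k, hk⟩ := hex q y e
    exact ⟨T', π, hπ, k, hk.symm⟩
  have hgs : Strict S.g := by
    intro p q h T y x _
    obtain ⟨T', π, hπ, x', hx'⟩ := surjective_up_to_refinements_of_epi (S.g.hom.app (op q)) y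
    exact ⟨T', π, hπ, x', hx'.symm⟩
  obtain ⟨aX, haX⟩ : ∃ aX : S.X₁ ⟶ I.X 0, aX = (single0 S.X₁).hom ≫ a.f 0 := ⟨_, rfl⟩
  have haXd : aX ≫ I.d 0 1 = 0 := haX ▸ single0_comp_d a 1
  obtain ⟨cZ, hcZ⟩ : ∃ cZ : S.X₃ ⟶ J.X 0, cZ = (single0 S.X₃).hom ≫ c.f 0 := ⟨_, rfl⟩
  have hcZd : cZ ≫ J.d 0 1 = 0 := hcZ ▸ single0_comp_d c 1
  obtain ⟨t, ht⟩ := exists_factor S.f hfs (hI 0) aX (fun p T x hx => by
    haveI := hmono p
    rw [zero_of_comp_mono _ hx, zero_comp])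
  obtain ⟨s, hs⟩ := exists_factor S.g hgs (hI 1) (t ≫ I.d 0 1) (fun p T x hx => by
    obtain ⟨T', π, hπ, k, hk⟩ := hex p x hx
    rw [← cancel_epi π, comp_zero, ← Category.assoc, hk, Category.assoc, ← app_comp,
      ← Category.assoc, ht, haXd, app_zero, comp_zero])
  have hgepi : Epi S.g := ⟨fun u v huv => by
    apply ObjectProperty.hom_ext
    ext p
    haveI := hepi p.unop
    exact (cancel_epi (S.g.hom.app (op p.unop))).1 (congrArg (fun m => m.hom.app p) huv)⟩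
  have hsd : s ≫ I.d 1 2 = 0 := by
    rw [← cancel_epi S.g, ← Category.assoc, hs, comp_zero, Category.assoc, I.d_comp_d, comp_zero]
  haveI : (I⟦(1 : ℤ)⟧).IsStrictlyGE (-1) := I.isStrictlyGE_shift 0 1 (-1) (by omega)
  let σ : (CochainComplex.singleFunctor (FilD.FilF A) 0).obj S.X₃ ⟶ I⟦(1 : ℤ)⟧ :=
    HomologicalComplex.mkHomFromSingle (-s : S.X₃ ⟶ (I⟦(1 : ℤ)⟧).X 0) (fun k hk => by
      have hk' : (0 : ℤ) + 1 = k := hk
      subst hk'
      rw [CochainComplex.shiftFunctor_obj_d']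
      show (-s : S.X₃ ⟶ I.X 1) ≫ ((1 : ℤ).negOnePow • I.d 1 2) = 0
      simp [hsd])
  obtain ⟨β', hβ'⟩ := (bijective_precomp (I⟦(1 : ℤ)⟧) (-1) (fun n => hI _) c hc).2
    ((HomotopyCategory.quotient _ _).map σ)
  obtain ⟨δ, rfl⟩ := (HomotopyCategory.quotient _ _).map_surjective β'
  let h : Homotopy (c ≫ δ) σ :=
    HomotopyCategory.homotopyOfEq _ _ ((Functor.map_comp _ _ _).trans hβ')
  obtain ⟨w, hw⟩ : ∃ w : S.X₃ ⟶ I.X 0, w = (single0 S.X₃).hom ≫ h.hom 0 (-1) := ⟨_, rfl⟩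
  have hcδ : cZ ≫ (δ.f 0 : J.X 0 ⟶ I.X 1) = -s - w ≫ I.d 0 1 := by
    have h0 := congrArg ((single0 S.X₃).hom ≫ ·) (h.comm 0)
    simp only [Preadditive.comp_add, HomologicalComplex.comp_f, ← Category.assoc, ← hcZ] at h0
    refine h0.trans ?_
    rw [prevD_eq _ (show (ComplexShape.up ℤ).Rel (-1) 0 from rfl),
      dNext_eq _ (show (ComplexShape.up ℤ).Rel 0 1 from rfl)]
    rw [single0_d, zero_comp, comp_zero, zero_add]
    have hσ : (single0 S.X₃).hom ≫ σ.f 0 = (-s : S.X₃ ⟶ (I⟦(1 : ℤ)⟧).X 0) := by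
      rw [HomologicalComplex.mkHomFromSingle_f]
      exact Iso.inv_hom_id_assoc _ _
    have e : (single0 S.X₃).hom ≫ h.hom 0 (-1) ≫ (I⟦(1 : ℤ)⟧).d (-1) 0 =
        (w ≫ ((1 : ℤ).negOnePow • I.d 0 1) : S.X₃ ⟶ I.X 1) := by
      rw [hw]; exact (Category.assoc _ _ _).symm
    rw [hσ, e]
    show w ≫ ((1 : ℤ).negOnePow • I.d 0 1) + (-s : S.X₃ ⟶ I.X 1) = -s - w ≫ I.d 0 1
    simp [sub_eq_add_neg, add_comm]
  let D : ∀ n : ℤ, J.X n ⟶ I.X (n + 1) := fun n => δ.f n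
  have hcD : cZ ≫ (D 0 : J.X 0 ⟶ I.X 1) = -s - w ≫ I.d 0 1 := hcδ
  obtain ⟨t', ht'⟩ : ∃ t' : S.X₂ ⟶ I.X 0, t' = t + S.g ≫ w := ⟨_, rfl⟩
  have ht'd : t' ≫ I.d 0 1 = -(S.g ≫ cZ ≫ (D 0 : J.X 0 ⟶ I.X 1)) := by
    rw [hcD, ht']
    simp [Preadditive.add_comp, hs]
    abel
  have ht'f : S.f ≫ t' = aX := by
    rw [ht', Preadditive.comp_add, ht, ← Category.assoc, S.zero, zero_comp, add_zero]
  have hδ : ∀ n : ℤ, D n ≫ I.d (n + 1) (n + 1 + 1) + J.d n (n + 1) ≫ D (n + 1) = 0 := by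
    intro n
    have h1 : D n ≫ ((1 : ℤ).negOnePow • I.d (n + 1) (n + 1 + 1)) = J.d n (n + 1) ≫ D (n + 1) :=
      δ.comm n (n + 1)
    rw [← h1]
    simp
  let M : CochainComplex (FilD.FilF A) ℤ := CochainComplex.of (fun n => I.X n ⊞ J.X n)
    (fun n => biprod.desc (I.d n (n + 1) ≫ biprod.inl)
      (biprod.lift (D n) (J.d n (n + 1))))
    (fun n => by
      refine biprod.hom_ext' _ _ (biprod.hom_ext _ _ ?_ ?_) (biprod.hom_ext _ _ ?_ ?_)
      · simp
      · simp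
      · simpa using hδ n
      · simp)
  have hMd : ∀ n : ℤ, M.d n (n + 1) = biprod.desc (I.d n (n + 1) ≫ biprod.inl)
      (biprod.lift (D n) (J.d n (n + 1))) := fun n => by
    simp [M, CochainComplex.of]

  let α : I ⟶ M :=
    { f := fun n => biprod.inl
      comm' := fun i j hij => by
        obtain rfl : i + 1 = j := hij
        rw [hMd]; simp }
  let β : M ⟶ J :=
    { f := fun n => biprod.snd
      comm' := fun i j hij => by
        obtain rfl : i + 1 = j := hij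
        rw [hMd]; refine biprod.hom_ext' _ _ ?_ ?_ <;> simp }
  let b : (CochainComplex.singleFunctor (FilD.FilF A) 0).obj S.X₂ ⟶ M :=
    HomologicalComplex.mkHomFromSingle (biprod.lift t' (S.g ≫ cZ) : S.X₂ ⟶ M.X 0) (fun k hk => by
      have hk' : (0 : ℤ) + 1 = k := hk
      subst hk'
      rw [hMd]
      show (biprod.lift t' (S.g ≫ cZ) : S.X₂ ⟶ I.X 0 ⊞ J.X 0) ≫
        biprod.desc (I.d 0 1 ≫ biprod.inl) (biprod.lift (D 0 : J.X 0 ⟶ I.X 1) (J.d 0 1)) = 0
      refine biprod.hom_ext _ _ ?_ ?_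
      · simp [biprod.lift_desc, Preadditive.add_comp, ht'd]
      · simp [biprod.lift_desc, Preadditive.add_comp, hcZd])
  have hb : (single0 S.X₂).hom ≫ b.f 0 = biprod.lift t' (S.g ≫ cZ) := by
    rw [HomologicalComplex.mkHomFromSingle_f]
    exact Iso.inv_hom_id_assoc _ _
  refine ⟨M, α, β, b, fun n => ⟨biprod.fst, biprod.inr, biprod.inl_fst, biprod.inr_snd,
    biprod.inl_snd, biprod.total⟩, single0_ext ?_, single0_ext ?_⟩
  · rw [HomologicalComplex.comp_f, HomologicalComplex.comp_f, ← Category.assoc, ← Category.assoc,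
      single0_map, ← haX, Category.assoc, hb]
    show aX ≫ biprod.inl = _
    refine biprod.hom_ext _ _ ?_ ?_ <;> simp [ht'f]
  · rw [HomologicalComplex.comp_f, HomologicalComplex.comp_f, ← Category.assoc, ← Category.assoc,
      single0_map, hb, Category.assoc, ← hcZ]
    show biprod.lift t' (S.g ≫ cZ) ≫ biprod.snd = _
    simp

end Groth.Agent.FilInjLib
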