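import Groth.Agent.FilInjLib.Null
import Mathlib.Algebra.Homology.HomotopyCategory.Acyclic
import Mathlib.Algebra.Homology.HomotopyCategory.Pretriangulated
import Mathlib.Algebra.Homology.Localization
import Mathlib.CategoryTheory.Preadditive.Biproducts

/-!
Homotopy classes of maps into bounded below complexes of filtered injectives.
-/

set_option autoImplicit false
set_option linter.unusedSectionVars false
set_option linter.style.haveILetI false
universe v u

open CategoryTheory CategoryTheory.Limits Opposite Pretriangulated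

namespace Groth.Agent.FilInjLib

set_option backward.isDefEq.respectTransparency.types false

variable {A : Type u} [Category.{v} A] [Abelian A]

theorem isFinFil_biprod (F G : FilD.FilF A) : FilD.IsFinFil A (F.obj ⊞ G.obj) := by
  have tot : ∀ p : ℤᵒᵖ, (biprod.fst : F.obj ⊞ G.obj ⟶ _).app p ≫ (biprod.inl : F.obj ⟶ F.obj ⊞ G.obj).app p +
      (biprod.snd : F.obj ⊞ G.obj ⟶ _).app p ≫ (biprod.inr : G.obj ⟶ F.obj ⊞ G.obj).app p = 𝟙 _ := by
    intro p
    rw [← NatTrans.comp_app, ← NatTrans.comp_app]
    exact congrArg (fun m => NatTrans.app m p) (biprod.total (X := F.obj) (Y := G.obj))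
  refine ⟨fun q p f => ?_, ?_, ?_⟩
  · haveI := F.property.1 f
    haveI := G.property.1 f
    refine Preadditive.mono_of_cancel_zero _ fun {T} x hx => ?_
    have h1 : x ≫ (biprod.fst : F.obj ⊞ G.obj ⟶ _).app q = 0 := by
      rw [← cancel_mono (F.obj.map f), Category.assoc, ← NatTrans.naturality, reassoc_of% hx]
      simp
    have h2 : x ≫ (biprod.snd : F.obj ⊞ G.obj ⟶ _).app q = 0 := by
      rw [← cancel_mono (G.obj.map f), Category.assoc, ← NatTrans.naturality, reassoc_of% hx]
      simp
    have := congrArg (x ≫ ·) (tot q)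
    simp only [Preadditive.comp_add, reassoc_of% h1, reassoc_of% h2, zero_comp, add_zero,
      Category.comp_id] at this
    exact this.symm
  · obtain ⟨b, hb⟩ := F.property.2.1
    obtain ⟨b', hb'⟩ := G.property.2.1
    refine ⟨max b b', fun p hp => ?_⟩
    rw [IsZero.iff_id_eq_zero, ← tot]
    rw [(hb p ((le_max_left _ _).trans hp)).eq_of_tgt ((biprod.fst : F.obj ⊞ G.obj ⟶ _).app _) 0,
      (hb' p ((le_max_right _ _).trans hp)).eq_of_tgt ((biprod.snd : F.obj ⊞ G.obj ⟶ _).app _) 0]
    simp
  · obtain ⟨a, ha⟩ := F.property.2.2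
    obtain ⟨a', ha'⟩ := G.property.2.2
    refine ⟨min a a', fun q p f hq => ?_⟩
    haveI := ha f (hq.trans (min_le_left _ _))
    haveI := ha' f (hq.trans (min_le_right _ _))
    refine ⟨(biprod.fst : F.obj ⊞ G.obj ⟶ _).app p ≫ inv (F.obj.map f) ≫ (biprod.inl : F.obj ⟶ _ ⊞ G.obj).app q +
      (biprod.snd : F.obj ⊞ G.obj ⟶ _).app p ≫ inv (G.obj.map f) ≫ (biprod.inr : G.obj ⟶ F.obj ⊞ _).app q,
      ?_, ?_⟩
    · rw [Preadditive.comp_add, NatTrans.naturality_assoc, NatTrans.naturality_assoc,
        IsIso.hom_inv_id_assoc, IsIso.hom_inv_id_assoc, tot]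
    · rw [Preadditive.add_comp, Category.assoc, Category.assoc, Category.assoc, Category.assoc,
        ← NatTrans.naturality, ← NatTrans.naturality, IsIso.inv_hom_id_assoc, IsIso.inv_hom_id_assoc,
        tot]

instance instHasBinaryBiproductsFilF : HasBinaryBiproducts (FilD.FilF A) where
  has_binary_biproduct X Y := HasBinaryBiproduct.mk
    { bicone :=
        { pt := ⟨X.obj ⊞ Y.obj, isFinFil_biprod X Y⟩
          fst := ObjectProperty.homMk biprod.fst
          snd := ObjectProperty.homMk biprod.snd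
          inl := ObjectProperty.homMk biprod.inl
          inr := ObjectProperty.homMk biprod.inr
          inl_fst := ObjectProperty.hom_ext _ biprod.inl_fst
          inl_snd := ObjectProperty.hom_ext _ biprod.inl_snd
          inr_fst := ObjectProperty.hom_ext _ biprod.inr_fst
          inr_snd := ObjectProperty.hom_ext _ biprod.inr_snd }
      isBilimit := isBinaryBilimitOfTotal _ (ObjectProperty.hom_ext _ biprod.total) }

/-- The mapping cone of a filtered quasi-isomorphism is filtered acyclic. -/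
theorem isFilteredAcyclic_mappingCone {K L : CochainComplex (FilD.FilF A) ℤ} (α : K ⟶ L)
    (hα : FilD.IsFilteredQuasiIso α) : FilD.IsFilteredAcyclic (CochainComplex.mappingCone α) := by
  intro p n
  let φ := (FilD.grCx p).map α
  have h1 : (HomotopyCategory.quasiIso A (ComplexShape.up ℤ)) ((HomotopyCategory.quotient A _).map φ) := by
    rw [HomotopyCategory.quotient_map_mem_quasiIso_iff, HomologicalComplex.mem_quasiIso_iff]
    exact hα p
  rw [HomotopyCategory.quasiIso_eq_trW_subcategoryAcyclic] at h1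
  have h2 := ((HomotopyCategory.subcategoryAcyclic A).trW_iff_of_distinguished _
    (HomotopyCategory.mappingCone_triangleh_distinguished φ)).1 h1
  exact ((HomotopyCategory.quotient_obj_mem_subcategoryAcyclic_iff_exactAt _).1 h2 n).of_iso
    (CochainComplex.mappingCone.mapHomologicalComplexIso α (FilD.grF A p)).symm

theorem hom_eq_zero (C I : CochainComplex (FilD.FilF A) ℤ) (hC : FilD.IsFilteredAcyclic C)
    (a : ℤ) [I.IsStrictlyGE a] (hI : ∀ n, FilD.IsFilteredInjective (I.X n))
    (f : (HomotopyCategory.quotient (FilD.FilF A) (ComplexShape.up ℤ)).obj C ⟶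
      (HomotopyCategory.quotient (FilD.FilF A) (ComplexShape.up ℤ)).obj I) : f = 0 := by
  obtain ⟨g, rfl⟩ := (HomotopyCategory.quotient _ _).map_surjective f
  obtain ⟨h⟩ := nullHomotopic C I hC a hI g
  rw [HomotopyCategory.eq_of_homotopy _ _ h, Functor.map_zero]

theorem bijective_precomp (I : CochainComplex (FilD.FilF A) ℤ)
    (a : ℤ) [I.IsStrictlyGE a] (hI : ∀ n, FilD.IsFilteredInjective (I.X n))
    {K L : CochainComplex (FilD.FilF A) ℤ} (α : K ⟶ L) (hα : FilD.IsFilteredQuasiIso α) :
    Function.Bijective (fun β : (HomotopyCategory.quotient (FilD.FilF A) (ComplexShape.up ℤ)).obj L ⟶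
        (HomotopyCategory.quotient (FilD.FilF A) (ComplexShape.up ℤ)).obj I =>
      (HomotopyCategory.quotient (FilD.FilF A) (ComplexShape.up ℤ)).map α ≫ β) := by
  let Q := HomotopyCategory.quotient (FilD.FilF A) (ComplexShape.up ℤ)
  have hC := isFilteredAcyclic_mappingCone α hα
  have hT := HomotopyCategory.mappingCone_triangleh_distinguished α
  constructor
  · intro β β' h
    obtain ⟨g, hg⟩ := Triangle.yoneda_exact₂ _ hT (β - β')
      ((Preadditive.comp_sub _ _ _).trans (sub_eq_zero.2 h))
    exact sub_eq_zero.1 (hg.trans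
      ((congrArg _ (hom_eq_zero _ I hC a hI g)).trans comp_zero))
  · intro γ
    haveI : (I⟦(1 : ℤ)⟧).IsStrictlyGE (a - 1) := I.isStrictlyGE_shift a 1 (a - 1) (by omega)
    have hI' : ∀ n, FilD.IsFilteredInjective ((I⟦(1 : ℤ)⟧).X n) := fun n => hI _
    let T := (CochainComplex.mappingCone.triangleh α).rotate
    have h0 : T.mor₂ ≫ γ⟦(1 : ℤ)⟧' = 0 := by
      rw [← cancel_mono ((Q.commShiftIso (1 : ℤ)).inv.app I), zero_comp]
      exact hom_eq_zero _ (I⟦(1 : ℤ)⟧) hC (a - 1) hI' _
    obtain ⟨g, hg⟩ := Triangle.yoneda_exact₃ _ (rot_of_distTriang _ hT) (γ⟦(1 : ℤ)⟧') h0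
    obtain ⟨δ, rfl⟩ := (shiftFunctor (HomotopyCategory (FilD.FilF A) (ComplexShape.up ℤ)) (1 : ℤ)).map_surjective (X := Q.obj L) (Y := Q.obj I) g
    refine ⟨-δ, (shiftFunctor (HomotopyCategory (FilD.FilF A) (ComplexShape.up ℤ)) (1 : ℤ)).map_injective ?_⟩
    refine Eq.trans ?_ hg.symm
    show _ = (-((shiftFunctor _ (1 : ℤ)).map (Q.map α))) ≫ _
    rw [Functor.map_comp, Functor.map_neg, Preadditive.comp_neg]
    exact (Preadditive.neg_comp _ _).symm

end Groth.Agent.FilInjLib
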