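import Groth.Agent.FilInjLib.Factor
import Mathlib.Algebra.Homology.Homotopy
import Mathlib.Algebra.Homology.Embedding.CochainComplex

/-!
Maps from filtered acyclic complexes into bounded below complexes of filtered injectives.
-/

set_option autoImplicit false
set_option linter.unusedSectionVars false
set_option linter.style.haveILetI false
universe v u

open CategoryTheory CategoryTheory.Limits Opposite

namespace Groth.Agent.FilInjLib

set_option backward.isDefEq.respectTransparency.types false

variable {A : Type u} [Category.{v} A] [Abelian A]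

theorem app_comp {X Y Z : FilD.FilF A} (f : X ⟶ Y) (g : Y ⟶ Z) (p : ℤᵒᵖ) :
    (f ≫ g).hom.app p = f.hom.app p ≫ g.hom.app p := rfl

theorem app_sub {X Y : FilD.FilF A} (f g : X ⟶ Y) (p : ℤᵒᵖ) :
    (f - g).hom.app p = f.hom.app p - g.hom.app p := rfl

theorem app_zero {X Y : FilD.FilF A} (p : ℤᵒᵖ) : (0 : X ⟶ Y).hom.app p = 0 := rfl

theorem exact_gr_cx {K : CochainComplex (FilD.FilF A) ℤ} (hK : FilD.IsFilteredAcyclic K)
    {i j k : ℤ} (hij : i + 1 = j) (hjk : j + 1 = k) (p : ℤ) :
    ((ShortComplex.mk (K.d i j).hom (K.d j k).hom (congrArg (fun m => m.hom) (K.d_comp_d i j k))).map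
      (FilD.gr A p)).Exact :=
  (HomologicalComplex.exactAt_iff' _ i j k
    (CochainComplex.prev ℤ j ▸ by omega) (CochainComplex.next ℤ j ▸ by omega)).1 (hK p j)

/-- A morphism from a filtered acyclic complex to a bounded below complex of filtered injectives is
null-homotopic. -/
theorem nullHomotopic (K I : CochainComplex (FilD.FilF A) ℤ)
    (hK : FilD.IsFilteredAcyclic K) (a : ℤ) [I.IsStrictlyGE a]
    (hI : ∀ n, FilD.IsFilteredInjective (I.X n)) (φ : K ⟶ I) : Nonempty (Homotopy φ 0) := by
  classical
  have hz : ∀ n : ℤ, n < a → IsZero (I.X n) := fun n hn => I.isZero_of_isStrictlyGE a n hn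
  let T : ℕ → ∀ i j : ℤ, K.X i ⟶ I.X j := fun k => Nat.rec (fun _ _ => 0)
    (fun _ T' i j => if h : ∃ g, K.d j i ≫ g = φ.f j - T' j (j - 1) ≫ I.d (j - 1) j then h.choose
      else 0) k
  let H : ∀ i j : ℤ, K.X i ⟶ I.X j := fun i j => T (j + 1 - a).toNat i j
  have main : ∀ (m : ℕ) (i j k : ℤ), j < a + m → i + 1 = j → j + 1 = k →
      K.d j k ≫ H k j = φ.f j - H j i ≫ I.d i j := by
    intro m
    induction m with
    | zero => intro i j k hj _ _; exact (hz j (by omega)).eq_of_tgt _ _
    | succ m ih =>
      intro i j k hj hij hjk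
      by_cases hja : j < a
      · exact (hz j hja).eq_of_tgt _ _
      obtain rfl : i = j - 1 := by omega
      have hm : (j + 1 - a).toNat = (j - 1 + 1 - a).toNat + 1 := by omega
      have hkill : K.d (j - 1) j ≫ (φ.f j - H j (j - 1) ≫ I.d (j - 1) j) = 0 := by
        have := congrArg (· ≫ I.d (j - 1) j) (ih (j - 1 - 1) (j - 1) j (by omega) (by omega) (by omega))
        simp only [Preadditive.sub_comp, Category.assoc, HomologicalComplex.d_comp_d, comp_zero,
          sub_zero] at this
        rw [Preadditive.comp_sub, ← φ.comm, this, sub_self]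
      have hw := congrArg (fun m => m.hom) (K.d_comp_d (j - 1) j k)
      obtain ⟨g, hg⟩ := exists_factor (K.d j k)
        (strict_of_exact_gr _ _ hw (exact_gr_cx hK hij hjk)) (hI j)
        (φ.f j - H j (j - 1) ≫ I.d (j - 1) j) (fun p T x hx => by
          obtain ⟨T', π, hπ, y, hy⟩ :=
            exact_level_of_exact_gr _ _ hw (exact_gr_cx hK hij hjk) p x hx
          rw [← cancel_epi π, comp_zero, ← Category.assoc, hy, Category.assoc, ← app_comp, hkill,
            app_zero, comp_zero])
      have hex : ∃ g : K.X k ⟶ I.X j, K.d j k ≫ g =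
          φ.f j - T (j - 1 + 1 - a).toNat j (j - 1) ≫ I.d (j - 1) j := ⟨g, hg⟩
      show K.d j k ≫ T (j + 1 - a).toNat k j = _
      rw [hm]
      show K.d j k ≫ (dite _ _ _) = _
      rw [dif_pos hex]
      exact hex.choose_spec
  refine ⟨{ hom := fun i j => if j + 1 = i then H i j else 0
            zero := fun i j h => if_neg h
            comm := fun i => ?_ }⟩
  rw [dNext_eq _ (show (ComplexShape.up ℤ).Rel i (i + 1) from rfl),
    prevD_eq _ (show (ComplexShape.up ℤ).Rel (i - 1) i from by simp)]
  skip
  rw [if_pos rfl, if_pos (by omega), HomologicalComplex.zero_f, add_zero,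
    main (i + 1 - a).toNat (i - 1) i (i + 1) (by omega) (by omega) rfl, sub_add_cancel]

end Groth.Agent.FilInjLib
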