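import Groth.Agent.FilInjLib.Htpy
import Groth.Agent.FilInjLib.Env
import Mathlib.Algebra.Homology.Refinements
import Mathlib.Algebra.Homology.Embedding.CochainComplex

/-!
Resolutions by filtered injective objects.
-/

set_option autoImplicit false
set_option linter.unusedSectionVars false
set_option linter.style.haveILetI false
universe v u

open CategoryTheory CategoryTheory.Limits Opposite

namespace Groth.Agent.FilInjLib

set_option backward.isDefEq.respectTransparency.types false

variable {A : Type u} [Category.{v} A] [Abelian A]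

/-- All graded pieces of `u` are monomorphisms (strict monomorphism). -/
def GMono {X Y : FilD.FilF A} (u : X ⟶ Y) : Prop := ∀ p : ℤ, Mono ((FilD.grF A p).map u)

theorem GMono.exact {X Y : FilD.FilF A} {u : X ⟶ Y} (hu : GMono u) (p : ℤ) :
    ((ShortComplex.mk (0 : X.obj ⟶ X.obj) u.hom zero_comp).map (FilD.gr A p)).Exact := by
  rw [ShortComplex.exact_iff_mono _ ((FilD.gr A p).map_zero _ _)]
  exact hu p

theorem GMono.strict {X Y : FilD.FilF A} {u : X ⟶ Y} (hu : GMono u) : Strict u :=
  strict_of_exact_gr _ u _ hu.exact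

theorem GMono.mono_app {X Y : FilD.FilF A} {u : X ⟶ Y} (hu : GMono u) (p : ℤ) :
    Mono (u.hom.app (op p)) := by
  refine Preadditive.mono_of_cancel_zero _ fun {T} x hx => ?_
  obtain ⟨T', π, hπ, k, hk⟩ := exact_level_of_exact_gr _ u _ hu.exact p x hx
  rw [← cancel_epi π, hk, comp_zero]
  exact comp_zero

theorem GMono.mono {X Y : FilD.FilF A} {u : X ⟶ Y} (hu : GMono u) : Mono u :=
  (FilD.IsFinFil A).ι.mono_of_mono_map
    (@NatTrans.mono_of_mono_app _ _ _ _ _ _ u.hom (fun q => hu.mono_app q.unop))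

theorem gmono_of_strict {X Y : FilD.FilF A} {u : X ⟶ Y} (hs : Strict u)
    (hm : ∀ p, Mono (u.hom.app (op p))) : GMono u := fun p => by
  have h := exact_gr_of_strict (0 : X.obj ⟶ X.obj) u zero_comp hs (fun q T x hx => by
    haveI := hm q
    exact ⟨T, 𝟙 T, inferInstance, 0, by rw [zero_of_comp_mono _ hx, comp_zero, zero_comp]⟩) p
  rwa [ShortComplex.exact_iff_mono _ ((FilD.gr A p).map_zero _ _)] at h

theorem GMono.comp {X Y Z : FilD.FilF A} {u : X ⟶ Y} {w : Y ⟶ Z} (hu : GMono u) (hw : GMono w) :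
    GMono (u ≫ w) := fun p => by
  haveI := hu p
  haveI := hw p
  rw [Functor.map_comp]
  infer_instance

theorem exact_cokernel_app {F G : ℤᵒᵖ ⥤ A} (w : F ⟶ G) (p : ℤᵒᵖ) :
    (ShortComplex.mk (w.app p) ((cokernel.π w).app p)
      (by rw [← NatTrans.comp_app, cokernel.condition]; simp)).Exact :=
  (ShortComplex.exact_of_g_is_cokernel (ShortComplex.mk w (cokernel.π w) (cokernel.condition w))
    (cokernelIsCokernel w)).map ((evaluation ℤᵒᵖ A).obj p)

theorem app_cokernel_π {F G : ℤᵒᵖ ⥤ A} (w : F ⟶ G) (p : ℤᵒᵖ) :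
    w.app p ≫ (cokernel.π w).app p = 0 := by
  rw [← NatTrans.comp_app, cokernel.condition]; rfl

theorem isFinFil_cokernel {X Y : FilD.FilF A} {w : X ⟶ Y} (hw : Strict w) :
    FilD.IsFinFil A (cokernel w.hom) := by
  haveI : ∀ p, Epi ((cokernel.π w.hom).app p) := fun p => inferInstance
  refine ⟨fun q p f => ?_, ?_, ?_⟩
  · have hf : Y.obj.map f = tr Y.obj (leOfHom f.unop) := congrArg Y.obj.map (Subsingleton.elim _ _)
    refine Preadditive.mono_of_cancel_zero _ fun {T} z hz => ?_
    obtain ⟨T₁, π₁, hπ₁, y, hy⟩ := surjective_up_to_refinements_of_epi ((cokernel.π w.hom).app q) z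
    have h1 : (y ≫ Y.obj.map f) ≫ (cokernel.π w.hom).app p = 0 := by
      rw [Category.assoc, NatTrans.naturality, ← Category.assoc, ← hy, Category.assoc, hz, comp_zero]
    obtain ⟨T₂, π₂, hπ₂, x, hx⟩ :=
      (ShortComplex.exact_iff_exact_up_to_refinements _).1 (exact_cokernel_app w.hom p) _ h1
    obtain ⟨T₃, π₃, hπ₃, x', hx'⟩ := hw (leOfHom f.unop) (π₂ ≫ y) x (by
      rw [Category.assoc]
      exact hx.symm.trans (congrArg (fun m => π₂ ≫ y ≫ m) hf))
    rw [← cancel_epi π₁, ← cancel_epi π₂, ← cancel_epi π₃, hy, comp_zero, comp_zero, comp_zero,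
      ← Category.assoc π₂, ← Category.assoc π₃, ← hx', Category.assoc, app_cokernel_π, comp_zero]
  · obtain ⟨b, hb⟩ := Y.property.2.1
    exact ⟨b, fun p hp => IsZero.of_epi ((cokernel.π w.hom).app (op p)) (hb p hp)⟩
  · obtain ⟨a, ha⟩ := X.property.2.2
    obtain ⟨a', ha'⟩ := Y.property.2.2
    refine ⟨min a a', fun q p f hq => ?_⟩
    haveI := ha f (hq.trans (min_le_left _ _))
    haveI := ha' f (hq.trans (min_le_right _ _))
    haveI : Epi ((cokernel w.hom).map f) := by
      haveI : Epi ((cokernel.π w.hom).app q ≫ (cokernel w.hom).map f) := by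
        rw [← NatTrans.naturality]; infer_instance
      exact epi_of_epi ((cokernel.π w.hom).app q) _
    haveI : Mono ((cokernel w.hom).map f) := by
      refine Preadditive.mono_of_cancel_zero _ fun {T} z hz => ?_
      obtain ⟨T₁, π₁, hπ₁, y, hy⟩ := surjective_up_to_refinements_of_epi ((cokernel.π w.hom).app q) z
      have h1 : (y ≫ Y.obj.map f) ≫ (cokernel.π w.hom).app p = 0 := by
        rw [Category.assoc, NatTrans.naturality, ← Category.assoc, ← hy, Category.assoc, hz, comp_zero]
      obtain ⟨T₂, π₂, hπ₂, x, hx⟩ :=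
        (ShortComplex.exact_iff_exact_up_to_refinements _).1 (exact_cokernel_app w.hom p) _ h1
      have h2 : π₂ ≫ y = (x ≫ inv (X.obj.map f)) ≫ w.hom.app q := by
        rw [← cancel_mono (Y.obj.map f), Category.assoc, Category.assoc, Category.assoc,
          ← NatTrans.naturality, IsIso.inv_hom_id_assoc]
        exact hx
      rw [← cancel_epi π₁, ← cancel_epi π₂, hy, comp_zero, comp_zero, ← Category.assoc π₂, h2,
        Category.assoc]
      exact (congrArg ((x ≫ inv (X.obj.map f)) ≫ ·) (app_cokernel_π w.hom q)).trans comp_zero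
    exact isIso_of_mono_of_epi _

variable (K : CochainComplex (FilD.FilF A) ℤ)

/-- One stage of the construction of a resolution: a filtered object `Q` receiving `K n`, embedded in
a filtered injective. -/
structure State (n : ℤ) where
  Q : FilD.FilF A
  I : FilD.FilF A
  u : Q ⟶ I
  hI : FilD.IsFilteredInjective I
  hu : GMono u
  i : K.X n ⟶ Q
  hi : GMono i
  v : ∀ j, Q ⟶ K.X j
  iv : ∀ j, i ≫ v j = K.d n j
  vd : ∀ j k, v j ≫ K.d j k = 0

variable {K}

/-- Relation between two consecutive stages. -/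
def Rel {m n : ℤ} (s : State K m) (t : State K n) : Prop :=
  ∃ e : s.I ⟶ t.Q, s.u ≫ e = s.v n ≫ t.i ∧ (∀ j, e ≫ t.v j = 0) ∧
    (∀ (p : ℤ) (T : A) (x : T ⟶ (FilD.grF A p).obj t.Q),
      ∃ (T' : A) (π : T' ⟶ T) (_ : Epi π) (k : T' ⟶ (FilD.grF A p).obj (K.X n))
        (z : T' ⟶ (FilD.grF A p).obj s.I),
        π ≫ x = k ≫ (FilD.grF A p).map t.i + z ≫ (FilD.grF A p).map e) ∧
    (∀ (p : ℤ) (T : A) (k : T ⟶ (FilD.grF A p).obj (K.X n)) (z : T ⟶ (FilD.grF A p).obj s.I),
      k ≫ (FilD.grF A p).map t.i + z ≫ (FilD.grF A p).map e = 0 →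
      ∃ (T' : A) (π : T' ⟶ T) (_ : Epi π) (q : T' ⟶ (FilD.grF A p).obj s.Q),
        π ≫ k = q ≫ (FilD.grF A p).map (s.v n) ∧ π ≫ z = -(q ≫ (FilD.grF A p).map s.u))

variable [EnoughInjectives A] (K)

/-- A stage starting from `K n` itself. -/
noncomputable def baseState (n : ℤ) : State K n where
  Q := K.X n
  I := (exists_envelope (K.X n)).choose
  u := (exists_envelope (K.X n)).choose_spec.choose
  hI := (exists_envelope (K.X n)).choose_spec.choose_spec.1
  hu := gmono_of_strict (exists_envelope (K.X n)).choose_spec.choose_spec.2.2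
    (exists_envelope (K.X n)).choose_spec.choose_spec.2.1
  i := 𝟙 _
  hi p := by rw [CategoryTheory.Functor.map_id]; infer_instance
  v := K.d n
  iv j := Category.id_comp _
  vd j k := K.d_comp_d _ _ _

/-- The zero stage. -/
noncomputable def zeroState (n : ℤ) (h : IsZero (K.X n)) : State K n where
  Q := K.X n
  I := K.X n
  u := 𝟙 _
  hI p := ((FilD.grF A p).map_isZero h).injective
  hu p := by rw [CategoryTheory.Functor.map_id]; infer_instance
  i := 𝟙 _
  hi p := by rw [CategoryTheory.Functor.map_id]; infer_instance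
  v := K.d n
  iv j := Category.id_comp _
  vd j k := K.d_comp_d _ _ _

variable {K}

theorem exists_step {m : ℤ} (s : State K m) (n : ℤ) : ∃ t : State K n, Rel s t := by
  let w : s.Q ⟶ K.X n ⊞ s.I := biprod.lift (s.v n) (-s.u)
  have hw1 : w ≫ biprod.fst = s.v n := biprod.lift_fst _ _
  have hw2 : w ≫ biprod.snd = -s.u := biprod.lift_snd _ _
  have hwg : GMono w := fun p => by
    haveI := s.hu p
    haveI : Mono ((FilD.grF A p).map w ≫ (FilD.grF A p).map (biprod.snd : K.X n ⊞ s.I ⟶ s.I)) := by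
      rw [← Functor.map_comp]; simp only [w, biprod.lift_snd, Functor.map_neg]; infer_instance
    exact mono_of_mono _ ((FilD.grF A p).map (biprod.snd : K.X n ⊞ s.I ⟶ s.I))
  let Q' : FilD.FilF A := ⟨cokernel w.hom, isFinFil_cokernel hwg.strict⟩
  let π' : K.X n ⊞ s.I ⟶ Q' := ObjectProperty.homMk (cokernel.π w.hom)
  have hπ'epi : Epi π' := (FilD.IsFinFil A).ι.epi_of_epi_map (inferInstanceAs (Epi (cokernel.π w.hom)))
  have hwπ : w ≫ π' = 0 := ObjectProperty.hom_ext _ (cokernel.condition w.hom)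
  have hepi : ∀ p, Epi ((FilD.grF A p).map π') := by
    intro p
    haveI : Epi (grπ (K.X n ⊞ s.I).obj p ≫ (FilD.gr A p).map π'.hom) := by
      rw [grπ_map]
      haveI : Epi (π'.hom.app (op p)) := inferInstanceAs (Epi ((cokernel.π w.hom).app (op p)))
      infer_instance
    show Epi ((FilD.gr A p).map π'.hom)
    exact epi_of_epi (grπ (K.X n ⊞ s.I).obj p) _
  have hex : ∀ p, ((ShortComplex.mk w π' hwπ).map (FilD.grF A p)).Exact := fun p =>
    exact_gr_of_strict w.hom π' (cokernel.condition w.hom)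
      (fun p q h T y x _ => by
        haveI : Epi (π'.hom.app (op q)) := inferInstanceAs (Epi ((cokernel.π w.hom).app (op q)))
        obtain ⟨T', π, hπ, x', hx'⟩ := surjective_up_to_refinements_of_epi (π'.hom.app (op q)) y
        exact ⟨T', π, hπ, x', hx'.symm⟩)
      (fun q T x hx => (ShortComplex.exact_iff_exact_up_to_refinements _).1
        (exact_cokernel_app w.hom (op q)) x hx) p
  have hv : ∀ j, w ≫ biprod.desc (K.d n j) 0 = 0 := fun j => by simp [w, s.vd]
  let v' : ∀ j, Q' ⟶ K.X j := fun j => ObjectProperty.homMk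
    (cokernel.desc w.hom (biprod.desc (K.d n j) 0 : K.X n ⊞ s.I ⟶ K.X j).hom
      (congrArg (fun m => m.hom) (hv j)))
  have hπv : ∀ j, π' ≫ v' j = biprod.desc (K.d n j) 0 := fun j =>
    ObjectProperty.hom_ext _ (cokernel.π_desc _ _ _)
  have hdec : ∀ (p : ℤ) {T : A} (y : T ⟶ (FilD.grF A p).obj (K.X n ⊞ s.I)),
      y = (y ≫ (FilD.grF A p).map biprod.fst) ≫ (FilD.grF A p).map biprod.inl +
        (y ≫ (FilD.grF A p).map biprod.snd) ≫ (FilD.grF A p).map biprod.inr := by
    intro p T y
    simp only [Category.assoc, ← Functor.map_comp, ← Preadditive.comp_add, ← Functor.map_add,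
      biprod.total, CategoryTheory.Functor.map_id, Category.comp_id]
  have hG1 : ∀ p, (FilD.grF A p).map w ≫ (FilD.grF A p).map biprod.fst = (FilD.grF A p).map (s.v n) :=
    fun p => ((FilD.grF A p).map_comp _ _).symm.trans (congrArg _ hw1)
  have hG2 : ∀ p, (FilD.grF A p).map w ≫ (FilD.grF A p).map biprod.snd = -(FilD.grF A p).map s.u :=
    fun p => ((FilD.grF A p).map_comp _ _).symm.trans ((congrArg _ hw2).trans (Functor.map_neg _))
  have hwi : GMono (biprod.inl ≫ π' : K.X n ⟶ Q') := fun p => by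
    refine Preadditive.mono_of_cancel_zero _ fun {T} k hk => ?_
    rw [Functor.map_comp, ← Category.assoc] at hk
    obtain ⟨T', π, hπ, q₀, hq⟩ :=
      (ShortComplex.exact_iff_exact_up_to_refinements _).1 (hex p) (k ≫ (FilD.grF A p).map biprod.inl) hk
    obtain ⟨q, rfl⟩ : ∃ q : T' ⟶ (FilD.grF A p).obj s.Q, q = q₀ := ⟨q₀, rfl⟩
    replace hq : π ≫ k ≫ (FilD.grF A p).map biprod.inl = q ≫ (FilD.grF A p).map w := hq
    have h2 := congrArg (· ≫ (FilD.grF A p).map biprod.snd) hq
    simp only [Category.assoc] at h2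
    simp only [← (FilD.grF A p).map_comp (biprod.inl) (biprod.snd), biprod.inl_snd, Functor.map_zero,
      comp_zero] at h2
    replace h2 : q ≫ (FilD.grF A p).map s.u = 0 := by
      have h4 := h2.trans (congrArg (q ≫ ·) (hG2 p))
      rw [Preadditive.comp_neg, zero_eq_neg] at h4
      exact h4
    haveI : Mono ((FilD.grF A p).map s.u) := s.hu p
    have hq0 : q = 0 := zero_of_comp_mono _ h2
    have h3 := congrArg (· ≫ (FilD.grF A p).map biprod.fst) hq
    simp only [hq0, zero_comp, Category.assoc] at h3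
    simp only [← (FilD.grF A p).map_comp, biprod.inl_fst,
      CategoryTheory.Functor.map_id, Category.comp_id] at h3
    rw [← cancel_epi π, h3, comp_zero]
  obtain ⟨I', u', hI', hm', hs'⟩ := exists_envelope Q'
  refine ⟨{ Q := Q', I := I', u := u', hI := hI', hu := gmono_of_strict hs' hm'
            i := biprod.inl ≫ π', hi := hwi, v := v'
            iv := fun j => by rw [Category.assoc, hπv, biprod.inl_desc]
            vd := fun j k => by
              rw [← cancel_epi π', ← Category.assoc, hπv, comp_zero]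
              refine biprod.hom_ext' _ _ ?_ ?_ <;> simp },
    biprod.inr ≫ π', ?_, fun j => ?_, fun p T x => ?_, fun p T k z h => ?_⟩
  · have h := hwπ
    simp only [w, biprod.lift_eq, Preadditive.add_comp, Category.assoc, Preadditive.neg_comp,
      ← sub_eq_add_neg, Preadditive.sub_comp, sub_eq_zero] at h
    exact h.symm
  · show (biprod.inr ≫ π') ≫ v' j = 0
    rw [Category.assoc, hπv, biprod.inr_desc]
  · haveI := hepi p
    obtain ⟨T', π, hπ, y, hy⟩ := surjective_up_to_refinements_of_epi ((FilD.grF A p).map π') x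
    refine ⟨T', π, hπ, y ≫ (FilD.grF A p).map biprod.fst, y ≫ (FilD.grF A p).map biprod.snd, ?_⟩
    rw [hy]
    conv_lhs => rw [hdec p y]
    simp only [Functor.map_comp, Preadditive.add_comp, Category.assoc]
  · obtain ⟨T', π, hπ, q₀, hq⟩ := (ShortComplex.exact_iff_exact_up_to_refinements _).1 (hex p)
      (k ≫ (FilD.grF A p).map biprod.inl + z ≫ (FilD.grF A p).map biprod.inr)
      (by
        show _ ≫ (FilD.grF A p).map π' = 0
        rw [Functor.map_comp, Functor.map_comp] at h
        refine (Preadditive.add_comp _ _ _ _ _ _).trans ?_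
        rw [Category.assoc, Category.assoc]
        exact h)
    obtain ⟨q, rfl⟩ : ∃ q : T' ⟶ (FilD.grF A p).obj s.Q, q = q₀ := ⟨q₀, rfl⟩
    replace hq : π ≫ (k ≫ (FilD.grF A p).map biprod.inl + z ≫ (FilD.grF A p).map biprod.inr) =
        q ≫ (FilD.grF A p).map w := hq
    refine ⟨T', π, hπ, q, ?_, ?_⟩
    · have := congrArg (· ≫ (FilD.grF A p).map biprod.fst) hq
      simp only [Preadditive.comp_add, Preadditive.add_comp, Category.assoc] at this
      simp only [← (FilD.grF A p).map_comp, biprod.inl_fst, biprod.inr_fst, Functor.map_zero,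
        CategoryTheory.Functor.map_id, Category.comp_id, comp_zero, add_zero] at this
      exact this.trans (congrArg (fun m => q ≫ (FilD.grF A p).map m) hw1)
    · have := congrArg (· ≫ (FilD.grF A p).map biprod.snd) hq
      simp only [Preadditive.comp_add, Preadditive.add_comp, Category.assoc] at this
      simp only [← (FilD.grF A p).map_comp, biprod.inl_snd, biprod.inr_snd, Functor.map_zero,
        CategoryTheory.Functor.map_id, Category.comp_id, comp_zero, zero_add] at this
      exact (this.trans (congrArg (fun m => q ≫ (FilD.grF A p).map m) hw2)).trans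
        ((congrArg (q ≫ ·) (Functor.map_neg _)).trans (Preadditive.comp_neg _ _))

theorem exists_resolution (a : ℤ) [K.IsStrictlyGE a] :
    ∃ (I : CochainComplex (FilD.FilF A) ℤ) (φ : K ⟶ I), I.IsStrictlyGE a ∧
      (∀ n, FilD.IsFilteredInjective (I.X n)) ∧ FilD.IsFilteredQuasiIso φ ∧
      ∀ n, GMono (φ.f n) := by
  classical
  let T : ℕ → ∀ n : ℤ, State K n := fun k => Nat.rec
    (fun n => if h : IsZero (K.X n) then zeroState K n h else baseState K n)
    (fun _ T' n => (exists_step (T' (n - 1)) n).choose) k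
  let S : ∀ n : ℤ, State K n := fun n => T (n - a + 1).toNat n
  have hzero : ∀ n, n < a → IsZero (S n).Q ∧ IsZero (S n).I := by
    intro n hn
    have h : IsZero (K.X n) := K.isZero_of_isStrictlyGE a n hn
    have hk : (n - a + 1).toNat = 0 := by omega
    simp only [S, hk]
    show IsZero (dite _ _ _ : State K n).Q ∧ IsZero (dite _ _ _ : State K n).I
    rw [dif_pos h]
    exact ⟨h, h⟩
  have hrel : ∀ m n : ℤ, m + 1 = n → Rel (S m) (S n) := by
    intro m n hmn
    by_cases hn : n < a
    · obtain ⟨hQ, hI⟩ := hzero n hn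
      obtain ⟨hQ', hI'⟩ := hzero m (by omega)
      refine ⟨0, hQ'.eq_of_src _ _, fun j => zero_comp, fun p T x => ?_, fun p T k z _ => ?_⟩
      · exact ⟨T, 𝟙 T, inferInstance, 0, 0, ((FilD.grF A p).map_isZero hQ).eq_of_tgt _ _⟩
      · exact ⟨T, 𝟙 T, inferInstance, 0,
          ((FilD.grF A p).map_isZero (K.isZero_of_isStrictlyGE a n hn)).eq_of_tgt _ _,
          ((FilD.grF A p).map_isZero hI').eq_of_tgt _ _⟩
    · have hk : (n - a + 1).toNat = (m - a + 1).toNat + 1 := by omega
      obtain rfl : m = n - 1 := by omega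
      simp only [S, hk]
      exact (exists_step (T (n - 1 - a + 1).toNat (n - 1)) n).choose_spec
  choose e he hev hP1 hP2 using hrel
  let d : ∀ m n : ℤ, (S m).I ⟶ (S n).I := fun m n => if h : m + 1 = n then e m n h ≫ (S n).u else 0
  let I : CochainComplex (FilD.FilF A) ℤ :=
    { X := fun n => (S n).I
      d := d
      shape := fun m n h => dif_neg h
      d_comp_d' := fun i j k hij hjk => by
        have hij' : i + 1 = j := hij
        have hjk' : j + 1 = k := hjk
        simp only [d, dif_pos hij', dif_pos hjk', Category.assoc]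
        rw [reassoc_of% (he j k hjk'), reassoc_of% (hev i j hij' k), zero_comp] }
  have hId : ∀ m n (h : m + 1 = n), I.d m n = e m n h ≫ (S n).u := fun m n h => dif_pos h
  let φ : K ⟶ I :=
    { f := fun n => (S n).i ≫ (S n).u
      comm' := fun i j hij => by
        have hij' : i + 1 = j := hij
        rw [hId i j hij', Category.assoc, reassoc_of% (he i j hij'), reassoc_of% ((S i).iv j)] }
  have hge : I.IsStrictlyGE a := by
    rw [CochainComplex.isStrictlyGE_iff]
    exact fun n hn => (hzero n hn).2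
  refine ⟨I, φ, hge, fun n => (S n).hI, fun p => ?_, fun n => (S n).hi.comp (S n).hu⟩
  have hmn : ∀ n : ℤ, n - 1 + 1 = n := fun n => sub_add_cancel n 1
  have hP0 : ∀ (n : ℤ) (T' : A) (q : T' ⟶ (FilD.grF A p).obj (S n).Q),
      ∃ (T'' : A) (π : T'' ⟶ T') (_ : Epi π) (k : T'' ⟶ (FilD.grF A p).obj (K.X n))
        (z : T'' ⟶ (FilD.grF A p).obj (S (n - 1)).I),
        π ≫ q = k ≫ (FilD.grF A p).map (S n).i + z ≫ (FilD.grF A p).map (e (n - 1) n (hmn n)) :=
    fun n T' q => hP1 (n - 1) n (hmn n) p T' q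
  rw [quasiIso_iff]
  intro n
  have hi : (ComplexShape.up ℤ).prev n = n - 1 := CochainComplex.prev ℤ n
  have hk : (ComplexShape.up ℤ).next n = n + 1 := CochainComplex.next ℤ n
  rw [quasiIsoAt_iff_isIso_homologyMap, isIso_iff_mono_and_epi,
    HomologicalComplex.mono_homologyMap_iff_up_to_refinements _ (n - 1) n (n + 1) hi hk,
    HomologicalComplex.epi_homologyMap_iff_up_to_refinements _ (n - 1) n (n + 1) hi hk]
  refine ⟨fun T x₀ hx y₀ hy => ?_, fun T y₀ hy => ?_⟩
  · obtain ⟨x, rfl⟩ : ∃ x : T ⟶ (FilD.grF A p).obj (K.X n), x = x₀ := ⟨x₀, rfl⟩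
    obtain ⟨y, rfl⟩ : ∃ y : T ⟶ (FilD.grF A p).obj (S (n - 1)).I, y = y₀ := ⟨y₀, rfl⟩
    replace hy : x ≫ (FilD.grF A p).map ((S n).i ≫ (S n).u) =
        y ≫ (FilD.grF A p).map (I.d (n - 1) n) := hy
    haveI := (S n).hu p
    rw [hId _ _ (hmn n), Functor.map_comp, Functor.map_comp, ← Category.assoc, ← Category.assoc,
      cancel_mono] at hy
    obtain ⟨T₁, π₁, hπ₁, q, hq, -⟩ := hP2 (n - 1) n (hmn n) p T x (-y)
      (by rw [Preadditive.neg_comp, hy, add_neg_cancel])
    obtain ⟨T₂, π₂, hπ₂, k, z, hkz⟩ := hP0 (n - 1) T₁ q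
    refine ⟨T₂, π₂ ≫ π₁, inferInstance, k, ?_⟩
    show (π₂ ≫ π₁) ≫ x = k ≫ (FilD.grF A p).map (K.d (n - 1) n)
    rw [Category.assoc, hq, ← Category.assoc, hkz, Preadditive.add_comp, Category.assoc,
      Category.assoc, ← Functor.map_comp, ← Functor.map_comp, (S (n - 1)).iv, hev, Functor.map_zero,
      comp_zero, add_zero]
  · obtain ⟨y, rfl⟩ : ∃ y : T ⟶ (FilD.grF A p).obj (S n).I, y = y₀ := ⟨y₀, rfl⟩
    replace hy : y ≫ (FilD.grF A p).map (I.d n (n + 1)) = 0 := hy
    haveI := (S (n + 1)).hu p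
    rw [hId _ _ rfl, Functor.map_comp, ← Category.assoc] at hy
    replace hy := zero_of_comp_mono _ hy
    obtain ⟨T₁, π₁, hπ₁, q, hq0, hq⟩ := hP2 n (n + 1) rfl p T 0 y
      (by rw [hy, zero_comp, add_zero])
    obtain ⟨T₂, π₂, hπ₂, k, z, hkz⟩ := hP0 n T₁ q
    have hcyc : k ≫ (FilD.grF A p).map (K.d n (n + 1)) = 0 := by
      have := congrArg (· ≫ (FilD.grF A p).map ((S n).v (n + 1))) hkz
      simp only [Category.assoc, ← hq0, comp_zero, Preadditive.add_comp, ← Functor.map_comp, (S n).iv,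
        hev, Functor.map_zero, add_zero] at this
      exact this.symm
    refine ⟨T₂, π₂ ≫ π₁, inferInstance, -k, ?_, -z, ?_⟩
    · show (-k) ≫ (FilD.grF A p).map (K.d n (n + 1)) = 0
      rw [Preadditive.neg_comp, hcyc, neg_zero]
    · show (π₂ ≫ π₁) ≫ y = (-k) ≫ (FilD.grF A p).map ((S n).i ≫ (S n).u) +
        (-z) ≫ (FilD.grF A p).map (I.d (n - 1) n)
      rw [hId _ _ (hmn n), Category.assoc, hq, Preadditive.comp_neg, ← Category.assoc π₂, hkz]
      simp only [Functor.map_comp, Preadditive.add_comp, Preadditive.neg_comp, Category.assoc,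
        neg_add_rev]
      abel

end Groth.Agent.FilInjLib
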