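import Groth.Agent.FilInjLib.Htpy
import Mathlib.Algebra.Homology.HomotopyCategory.SingleFunctors

/-!
Maps out of a filtered object in degree zero.
-/

set_option autoImplicit false
set_option linter.unusedSectionVars false
universe v u

open CategoryTheory CategoryTheory.Limits Opposite

namespace Groth.Agent.FilInjLib

set_option backward.isDefEq.respectTransparency.types false

variable {A : Type u} [Category.{v} A] [Abelian A]

theorem eq_of_homotopy_single {X : FilD.FilF A} (J : CochainComplex (FilD.FilF A) ℤ) [J.IsStrictlyGE 0]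
    {f g : (CochainComplex.singleFunctor (FilD.FilF A) 0).obj X ⟶ J} (h : Homotopy f g) : f = g := by
  have hz : ∀ i j, h.hom i j = 0 := by
    intro i j
    by_cases hij : (ComplexShape.up ℤ).Rel j i
    · have hij' : j + 1 = i := hij
      by_cases hi : i = 0
      · exact (J.isZero_of_isStrictlyGE 0 j (by omega)).eq_of_tgt _ _
      · exact (HomologicalComplex.isZero_single_obj_X (ComplexShape.up ℤ) 0 X i hi).eq_of_src _ _
    · exact h.zero i j hij
  ext n
  rw [h.comm n]
  simp [dNext, prevD, hz]

theorem exists_map_resolution {X Y : FilD.FilF A} (f : X ⟶ Y)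
    (I : CochainComplex (FilD.FilF A) ℤ)
    (a : (CochainComplex.singleFunctor (FilD.FilF A) 0).obj X ⟶ I) (ha : FilD.IsFilteredQuasiIso a)
    (J : CochainComplex (FilD.FilF A) ℤ) [J.IsStrictlyGE 0] (hJ : ∀ n, FilD.IsFilteredInjective (J.X n))
    (b : (CochainComplex.singleFunctor (FilD.FilF A) 0).obj Y ⟶ J) :
    ∃ φ : I ⟶ J, a ≫ φ = (CochainComplex.singleFunctor (FilD.FilF A) 0).map f ≫ b := by
  let Q := HomotopyCategory.quotient (FilD.FilF A) (ComplexShape.up ℤ)
  obtain ⟨β, hβ⟩ := (bijective_precomp J 0 hJ a ha).2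
    (Q.map ((CochainComplex.singleFunctor (FilD.FilF A) 0).map f ≫ b))
  obtain ⟨φ, rfl⟩ := Q.map_surjective β
  exact ⟨φ, eq_of_homotopy_single J (HomotopyCategory.homotopyOfEq _ _ ((Q.map_comp _ _).trans hβ))⟩

end Groth.Agent.FilInjLib
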