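import Groth.Agent.FilInjLib.Resolution

/-!
Canonical truncations of filtered complexes.
-/

set_option autoImplicit false
set_option linter.unusedSectionVars false
set_option linter.style.haveILetI false
universe v u

open CategoryTheory CategoryTheory.Limits Opposite

namespace Groth.Agent.FilInjLib

set_option backward.isDefEq.respectTransparency.types false

variable {A : Type u} [Category.{v} A] [Abelian A]

theorem exact_gr_at (K : CochainComplex (FilD.FilF A) ℤ) {i j k : ℤ} (hij : i + 1 = j) (hjk : j + 1 = k)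
    (h : ∀ p, ((FilD.grCx p).obj K).ExactAt j) (p : ℤ) :
    ((ShortComplex.mk (K.d i j).hom (K.d j k).hom (congrArg (fun m => m.hom) (K.d_comp_d i j k))).map
      (FilD.gr A p)).Exact :=
  (HomologicalComplex.exactAt_iff' _ i j k
    (CochainComplex.prev ℤ j ▸ by omega) (CochainComplex.next ℤ j ▸ by omega)).1 (h p)

theorem strict_d_of_exact_succ (K : CochainComplex (FilD.FilF A) ℤ) {i j k : ℤ} (hij : i + 1 = j)
    (hjk : j + 1 = k) (h : ∀ p, ((FilD.grCx p).obj K).ExactAt j) : Strict (K.d i j) := by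
  intro p q hpq T y x hxy
  have hw := congrArg (fun m => m.hom) (K.d_comp_d i j k)
  have e : y ≫ (K.d j k).hom.app (op q) = 0 := by
    haveI := mono_tr (K.X k) hpq
    rw [← cancel_mono (tr (K.X k).obj hpq), zero_comp, Category.assoc, ← tr_nat, ← Category.assoc,
      ← hxy, Category.assoc, ← app_comp, K.d_comp_d, app_zero, comp_zero]
  obtain ⟨T', π, hπ, z, hz⟩ :=
    exact_level_of_exact_gr _ _ hw (exact_gr_at K hij hjk h) q y e
  exact ⟨T', π, hπ, z, hz.symm⟩

theorem exists_kernel {X Y : FilD.FilF A} (f : X ⟶ Y) (hf : Strict f) :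
    ∃ (Z : FilD.FilF A) (ι : Z ⟶ X), GMono ι ∧ ι ≫ f = 0 ∧
      (∀ (W : FilD.FilF A) (g : W ⟶ X), g ≫ f = 0 → ∃ g', g' ≫ ι = g) ∧
      ∀ (p : ℤ) (T : A) (x : T ⟶ (FilD.grF A p).obj X), x ≫ (FilD.grF A p).map f = 0 →
        ∃ (T' : A) (π : T' ⟶ T) (_ : Epi π) (z : T' ⟶ (FilD.grF A p).obj Z),
          π ≫ x = z ≫ (FilD.grF A p).map ι := by
  let Z : FilD.FilF A := ⟨kernel f.hom, isFinFil_kernel f.hom⟩
  let ι : Z ⟶ X := ObjectProperty.homMk (kernel.ι f.hom)
  have hm : ∀ p, Mono (ι.hom.app (op p)) := fun p => inferInstanceAs (Mono ((kernel.ι f.hom).app (op p)))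
  have hs : Strict ι := by
    intro p q h T y x hxy
    have hy : y ≫ f.hom.app (op q) = 0 := by
      haveI := mono_tr Y h
      rw [← cancel_mono (tr Y.obj h), zero_comp, Category.assoc, ← tr_nat, ← Category.assoc, ← hxy,
        Category.assoc, show ι.hom.app (op p) ≫ f.hom.app (op p) = 0 from
          (NatTrans.comp_app _ _ _).symm.trans
            (congrArg (fun m => NatTrans.app m (op p)) (kernel.condition f.hom)), comp_zero]
    obtain ⟨k, hk⟩ := kernel_app_lift f.hom q y hy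
    exact ⟨T, 𝟙 T, inferInstance, k, by rw [Category.id_comp]; exact hk⟩
  refine ⟨Z, ι, gmono_of_strict hs hm, ObjectProperty.hom_ext _ (kernel.condition f.hom),
    fun W g hg => ⟨ObjectProperty.homMk (kernel.lift f.hom g.hom (congrArg (fun m => m.hom) hg)),
      ObjectProperty.hom_ext _ (kernel.lift_ι _ _ _)⟩, fun p T x hx => ?_⟩
  exact (ShortComplex.exact_iff_exact_up_to_refinements _).1
    (exact_gr_of_strict (kernel.ι f.hom) f (kernel.condition f.hom) hf (fun q S y hy => by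
      obtain ⟨k, hk⟩ := kernel_app_lift f.hom q y hy
      exact ⟨S, 𝟙 S, inferInstance, k, by rw [Category.id_comp, hk]⟩) p) x hx

theorem exists_cokernel {X Y : FilD.FilF A} (f : X ⟶ Y) (hf : Strict f) :
    ∃ (C : FilD.FilF A) (π : Y ⟶ C), Epi π ∧ (∀ p, Epi ((FilD.grF A p).map π)) ∧ f ≫ π = 0 ∧
      (∀ (W : FilD.FilF A) (g : Y ⟶ W), f ≫ g = 0 → ∃ g', π ≫ g' = g) ∧
      ∀ (p : ℤ) (T : A) (x : T ⟶ (FilD.grF A p).obj Y), x ≫ (FilD.grF A p).map π = 0 →
        ∃ (T' : A) (π' : T' ⟶ T) (_ : Epi π') (z : T' ⟶ (FilD.grF A p).obj X),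
          π' ≫ x = z ≫ (FilD.grF A p).map f := by
  let C : FilD.FilF A := ⟨cokernel f.hom, isFinFil_cokernel hf⟩
  let π : Y ⟶ C := ObjectProperty.homMk (cokernel.π f.hom)
  have he : ∀ p, Epi (π.hom.app (op p)) := fun p => inferInstanceAs (Epi ((cokernel.π f.hom).app (op p)))
  have hπs : Strict π := by
    intro p q h T y x _
    haveI := he q
    obtain ⟨T', e, he', x', hx'⟩ := surjective_up_to_refinements_of_epi (π.hom.app (op q)) y
    exact ⟨T', e, he', x', hx'.symm⟩
  refine ⟨C, π, (FilD.IsFinFil A).ι.epi_of_epi_map (inferInstanceAs (Epi (cokernel.π f.hom))),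
    fun p => ?_, ObjectProperty.hom_ext _ (cokernel.condition f.hom),
    fun W g hg => ⟨ObjectProperty.homMk (cokernel.desc f.hom g.hom (congrArg (fun m => m.hom) hg)),
      ObjectProperty.hom_ext _ (cokernel.π_desc _ _ _)⟩, fun p T x hx => ?_⟩
  · haveI : Epi (grπ Y.obj p ≫ (FilD.gr A p).map π.hom) := by
      rw [grπ_map]; haveI := he p; infer_instance
    show Epi ((FilD.gr A p).map π.hom)
    exact epi_of_epi (grπ Y.obj p) _
  · exact (ShortComplex.exact_iff_exact_up_to_refinements _).1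
      (exact_gr_of_strict f.hom π (cokernel.condition f.hom) hπs (fun q S y hy =>
        (ShortComplex.exact_iff_exact_up_to_refinements _).1 (exact_cokernel_app f.hom (op q)) y hy) p) x hx

theorem exists_truncLE (K : CochainComplex (FilD.FilF A) ℤ) (b : ℤ)
    (hK : ∀ (p n : ℤ), b < n → IsZero (((FilD.grCx p).obj K).homology n)) :
    ∃ (M : CochainComplex (FilD.FilF A) ℤ) (φ : M ⟶ K), M.IsStrictlyLE b ∧ FilD.IsFilteredQuasiIso φ := by
  have hex : ∀ p n, b < n → ((FilD.grCx p).obj K).ExactAt n := fun p n hn =>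
    (HomologicalComplex.exactAt_iff_isZero_homology _ _).2 (hK p n hn)
  have hfam : ∀ n : ℤ, ∃ (X : FilD.FilF A) (ι : X ⟶ K.X n), Mono ι ∧ GMono ι ∧ (n < b → IsIso ι) ∧
      (b < n → IsZero X) ∧ (n = b → ι ≫ K.d n (n + 1) = 0 ∧
        (∀ (W : FilD.FilF A) (g : W ⟶ K.X n), g ≫ K.d n (n + 1) = 0 → ∃ g', g' ≫ ι = g) ∧
        ∀ (p : ℤ) (T : A) (x : T ⟶ (FilD.grF A p).obj (K.X n)),
          x ≫ (FilD.grF A p).map (K.d n (n + 1)) = 0 →
          ∃ (T' : A) (π : T' ⟶ T) (_ : Epi π) (z : T' ⟶ (FilD.grF A p).obj X),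
            π ≫ x = z ≫ (FilD.grF A p).map ι) := by
    intro n
    rcases lt_trichotomy n b with h | rfl | h
    · exact ⟨K.X n, 𝟙 _, inferInstance, fun p => by rw [CategoryTheory.Functor.map_id]; infer_instance,
        fun _ => inferInstance, fun h' => absurd h (not_lt.2 h'.le), fun h' => absurd h' h.ne⟩
    · obtain ⟨Z, ι, h1, h2, h3, h4⟩ := exists_kernel (K.d n (n + 1))
        (strict_d_of_exact_succ K rfl rfl fun p => hex p (n + 1) (by omega))
      exact ⟨Z, ι, h1.mono, h1, fun h' => absurd h' (lt_irrefl n), fun h' => absurd h' (lt_irrefl n),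
        fun _ => ⟨h2, h3, h4⟩⟩
    · obtain ⟨Z, hZ'⟩ := (HasZeroObject.zero : ∃ Z : FilD.FilF A, IsZero Z)
      exact ⟨Z, 0, ⟨fun a b _ => hZ'.eq_of_tgt a b⟩,
        fun p => ⟨fun a b _ => ((FilD.grF A p).map_isZero hZ').eq_of_tgt a b⟩,
        fun h' => absurd h (not_lt.2 h'.le), fun _ => hZ', fun h' => absurd h' h.ne'⟩
  choose X ι hι hgι hiso hzero hker using hfam
  have hd : ∀ i j : ℤ, ∃ g : X i ⟶ X j, g ≫ ι j = ι i ≫ K.d i j := by
    intro i j
    by_cases hij : i + 1 = j
    · rcases lt_trichotomy j b with h | h | h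
      · haveI := hiso j h
        exact ⟨ι i ≫ K.d i j ≫ inv (ι j), by simp⟩
      · exact (hker j h).2.1 _ _ (by rw [Category.assoc, K.d_comp_d, comp_zero])
      · refine ⟨0, ?_⟩
        rw [zero_comp]
        by_cases hi : i = b
        · subst hij; exact (hker i hi).1.symm
        · exact ((hzero i (by omega)).eq_of_src _ _)
    · exact ⟨0, by rw [K.shape i j hij, zero_comp, comp_zero]⟩
  choose d hd using hd
  let M : CochainComplex (FilD.FilF A) ℤ :=
    { X := X
      d := d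
      shape := fun i j h => by
        haveI := hι j
        rw [← cancel_mono (ι j), hd, K.shape i j h, comp_zero, zero_comp]
      d_comp_d' := fun i j k _ _ => by
        haveI := hι k
        rw [← cancel_mono (ι k), Category.assoc, hd, ← Category.assoc, hd, Category.assoc, K.d_comp_d,
          comp_zero, zero_comp] }
  let φ : M ⟶ K := { f := ι, comm' := fun i j _ => (hd i j).symm }
  have hle : M.IsStrictlyLE b := by
    rw [CochainComplex.isStrictlyLE_iff]
    exact fun n hn => hzero n hn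
  refine ⟨M, φ, hle, fun p => ?_⟩
  rw [quasiIso_iff]
  intro n
  have hp : (ComplexShape.up ℤ).prev n = n - 1 := CochainComplex.prev ℤ n
  have hn : (ComplexShape.up ℤ).next n = n + 1 := CochainComplex.next ℤ n
  rw [quasiIsoAt_iff_isIso_homologyMap, isIso_iff_mono_and_epi,
    HomologicalComplex.mono_homologyMap_iff_up_to_refinements _ (n - 1) n (n + 1) hp hn,
    HomologicalComplex.epi_homologyMap_iff_up_to_refinements _ (n - 1) n (n + 1) hp hn]
  refine ⟨fun T x₀ hx y₀ hy => ?_, fun T y₀ hy => ?_⟩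
  · obtain ⟨x, rfl⟩ : ∃ x : T ⟶ (FilD.grF A p).obj (X n), x = x₀ := ⟨x₀, rfl⟩
    obtain ⟨y, rfl⟩ : ∃ y : T ⟶ (FilD.grF A p).obj (K.X (n - 1)), y = y₀ := ⟨y₀, rfl⟩
    replace hy : x ≫ (FilD.grF A p).map (ι n) = y ≫ (FilD.grF A p).map (K.d (n - 1) n) := hy
    by_cases h : n - 1 < b
    · haveI := hiso _ h
      refine ⟨T, 𝟙 T, inferInstance, y ≫ (FilD.grF A p).map (inv (ι (n - 1))), ?_⟩
      show 𝟙 T ≫ x = (y ≫ (FilD.grF A p).map (inv (ι (n - 1)))) ≫ (FilD.grF A p).map (d (n - 1) n)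
      haveI := hgι n p
      rw [Category.id_comp, ← cancel_mono ((FilD.grF A p).map (ι n)), hy, Category.assoc, Category.assoc,
        ← Functor.map_comp, ← Functor.map_comp, hd, IsIso.inv_hom_id_assoc]
    · exact ⟨T, 𝟙 T, inferInstance, 0,
        ((FilD.grF A p).map_isZero (hzero n (by omega))).eq_of_tgt _ _⟩
  · obtain ⟨y, rfl⟩ : ∃ y : T ⟶ (FilD.grF A p).obj (K.X n), y = y₀ := ⟨y₀, rfl⟩
    replace hy : y ≫ (FilD.grF A p).map (K.d n (n + 1)) = 0 := hy
    rcases lt_trichotomy n b with h | h | h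
    · haveI := hiso _ h
      have hlift : (y ≫ (FilD.grF A p).map (inv (ι n))) ≫ (FilD.grF A p).map (ι n) = y := by
        rw [Category.assoc, ← Functor.map_comp, IsIso.inv_hom_id, CategoryTheory.Functor.map_id,
          Category.comp_id]
      refine ⟨T, 𝟙 T, inferInstance, y ≫ (FilD.grF A p).map (inv (ι n)), ?_, 0, ?_⟩
      · show (y ≫ (FilD.grF A p).map (inv (ι n))) ≫ (FilD.grF A p).map (d n (n + 1)) = 0
        haveI := hgι (n + 1) p
        rw [← cancel_mono ((FilD.grF A p).map (ι (n + 1))), zero_comp, Category.assoc,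
          ← Functor.map_comp (FilD.grF A p) (d n (n + 1)), hd, Functor.map_comp, ← Category.assoc,
          hlift, hy]
      · show 𝟙 T ≫ y = (y ≫ (FilD.grF A p).map (inv (ι n))) ≫ (FilD.grF A p).map (ι n) +
          0 ≫ (FilD.grF A p).map (K.d (n - 1) n)
        rw [hlift, zero_comp, Category.id_comp]
        exact (add_zero _).symm
    · obtain ⟨T', π, hπ, z, hz⟩ := (hker n h).2.2 p T y hy
      refine ⟨T', π, hπ, z, ((FilD.grF A p).map_isZero (hzero (n + 1) (by omega))).eq_of_tgt _ _, 0, ?_⟩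
      show π ≫ y = z ≫ (FilD.grF A p).map (ι n) + 0 ≫ (FilD.grF A p).map (K.d (n - 1) n)
      rw [zero_comp, hz]
      exact (add_zero _).symm
    · obtain ⟨T', π, hπ, z, hz⟩ :=
        (HomologicalComplex.exactAt_iff_exact_up_to_refinements _ (n - 1) n (n + 1) hp hn).1 (hex p n h) y hy
      exact ⟨T', π, hπ, 0, zero_comp, z, by rw [zero_comp, zero_add]; exact hz⟩

theorem exists_truncGE (K : CochainComplex (FilD.FilF A) ℤ) (a : ℤ)
    (hK : ∀ (p n : ℤ), n < a → IsZero (((FilD.grCx p).obj K).homology n)) :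
    ∃ (L : CochainComplex (FilD.FilF A) ℤ) (φ : K ⟶ L), L.IsStrictlyGE a ∧ FilD.IsFilteredQuasiIso φ := by
  have hex : ∀ p n, n < a → ((FilD.grCx p).obj K).ExactAt n := fun p n hn =>
    (HomologicalComplex.exactAt_iff_isZero_homology _ _).2 (hK p n hn)
  have hfam : ∀ n : ℤ, ∃ (X : FilD.FilF A) (π : K.X n ⟶ X), Epi π ∧
      (∀ p, Epi ((FilD.grF A p).map π)) ∧ (a < n → IsIso π) ∧
      (n < a → IsZero X) ∧ (n = a → K.d (n - 1) n ≫ π = 0 ∧
        (∀ (W : FilD.FilF A) (g : K.X n ⟶ W), K.d (n - 1) n ≫ g = 0 → ∃ g', π ≫ g' = g) ∧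
        ∀ (p : ℤ) (T : A) (x : T ⟶ (FilD.grF A p).obj (K.X n)),
          x ≫ (FilD.grF A p).map π = 0 →
          ∃ (T' : A) (π' : T' ⟶ T) (_ : Epi π') (z : T' ⟶ (FilD.grF A p).obj (K.X (n - 1))),
            π' ≫ x = z ≫ (FilD.grF A p).map (K.d (n - 1) n)) := by
    intro n
    rcases lt_trichotomy n a with h | rfl | h
    · obtain ⟨Z, hZ'⟩ := (HasZeroObject.zero : ∃ Z : FilD.FilF A, IsZero Z)
      exact ⟨Z, 0, ⟨fun c e _ => hZ'.eq_of_src c e⟩,
        fun p => ⟨fun c e _ => ((FilD.grF A p).map_isZero hZ').eq_of_src c e⟩,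
        fun h' => absurd h (not_lt.2 h'.le), fun _ => hZ', fun h' => absurd h' h.ne⟩
    · have hs : Strict (K.d (n - 1) n) :=
        strict_of_exact_gr _ _ _ (exact_gr_at K (i := n - 1 - 1) (j := n - 1) (k := n)
          (by omega) (by omega) fun p => hex p (n - 1) (by omega))
      obtain ⟨C, π, h0, h1, h2, h3, h4⟩ := exists_cokernel (K.d (n - 1) n) hs
      exact ⟨C, π, h0, h1, fun h' => absurd h' (lt_irrefl n), fun h' => absurd h' (lt_irrefl n),
        fun _ => ⟨h2, h3, h4⟩⟩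
    · exact ⟨K.X n, 𝟙 _, inferInstance, fun p => by rw [CategoryTheory.Functor.map_id]; infer_instance,
        fun _ => inferInstance, fun h' => absurd h (not_lt.2 h'.le), fun h' => absurd h' h.ne'⟩
  choose X π hπ hgπ hiso hzero hcok using hfam
  have hd : ∀ i j : ℤ, ∃ g : X i ⟶ X j, π i ≫ g = K.d i j ≫ π j := by
    intro i j
    by_cases hij : i + 1 = j
    · rcases lt_trichotomy i a with h | h | h
      · refine ⟨0, ?_⟩
        rw [comp_zero]
        by_cases hj : j = a
        · obtain rfl : i = j - 1 := by omega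
          exact (hcok j hj).1.symm
        · exact ((hzero j (by omega)).eq_of_tgt _ _)
      · exact (hcok i h).2.1 _ _ (by rw [← Category.assoc, K.d_comp_d, zero_comp])
      · haveI := hiso i h
        exact ⟨inv (π i) ≫ K.d i j ≫ π j, by simp⟩
    · exact ⟨0, by rw [K.shape i j hij, zero_comp, comp_zero]⟩
  choose d hd using hd
  let L : CochainComplex (FilD.FilF A) ℤ :=
    { X := X
      d := d
      shape := fun i j h => by
        haveI := hπ i
        rw [← cancel_epi (π i), hd, K.shape i j h, comp_zero, zero_comp]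
      d_comp_d' := fun i j k _ _ => by
        haveI := hπ i
        rw [← cancel_epi (π i), reassoc_of% (hd i j), hd, ← Category.assoc, K.d_comp_d,
          comp_zero, zero_comp] }
  let φ : K ⟶ L := { f := π, comm' := fun i j _ => hd i j }
  have hge : L.IsStrictlyGE a := by
    rw [CochainComplex.isStrictlyGE_iff]
    exact fun n hn => hzero n hn
  refine ⟨L, φ, hge, fun p => ?_⟩
  rw [quasiIso_iff]
  intro n
  have hp : (ComplexShape.up ℤ).prev n = n - 1 := CochainComplex.prev ℤ n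
  have hn : (ComplexShape.up ℤ).next n = n + 1 := CochainComplex.next ℤ n
  rw [quasiIsoAt_iff_isIso_homologyMap, isIso_iff_mono_and_epi,
    HomologicalComplex.mono_homologyMap_iff_up_to_refinements _ (n - 1) n (n + 1) hp hn,
    HomologicalComplex.epi_homologyMap_iff_up_to_refinements _ (n - 1) n (n + 1) hp hn]
  refine ⟨fun T x₀ hx y₀ hy => ?_, fun T y₀ hy => ?_⟩
  · obtain ⟨x, rfl⟩ : ∃ x : T ⟶ (FilD.grF A p).obj (K.X n), x = x₀ := ⟨x₀, rfl⟩
    obtain ⟨y, rfl⟩ : ∃ y : T ⟶ (FilD.grF A p).obj (X (n - 1)), y = y₀ := ⟨y₀, rfl⟩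
    replace hy : x ≫ (FilD.grF A p).map (π n) = y ≫ (FilD.grF A p).map (d (n - 1) n) := hy
    rcases lt_trichotomy n a with h | h | h
    · exact (HomologicalComplex.exactAt_iff_exact_up_to_refinements _ (n - 1) n (n + 1) hp hn).1
        (hex p n h) x hx
    · exact (hcok n h).2.2 p T x (by
        rw [hy, ((FilD.grF A p).map_isZero (hzero (n - 1) (by omega))).eq_of_tgt y 0, zero_comp])
    · haveI := hgπ (n - 1) p
      obtain ⟨T', e, he, z, hz⟩ := surjective_up_to_refinements_of_epi ((FilD.grF A p).map (π (n - 1))) y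
      refine ⟨T', e, he, z, ?_⟩
      show e ≫ x = z ≫ (FilD.grF A p).map (K.d (n - 1) n)
      haveI := hiso n h
      rw [← cancel_mono ((FilD.grF A p).map (π n)), Category.assoc, Category.assoc, hy,
        ← Category.assoc e, hz, Category.assoc, ← Functor.map_comp, ← Functor.map_comp, hd]
  · obtain ⟨y, rfl⟩ : ∃ y : T ⟶ (FilD.grF A p).obj (X n), y = y₀ := ⟨y₀, rfl⟩
    replace hy : y ≫ (FilD.grF A p).map (d n (n + 1)) = 0 := hy
    by_cases h : n < a
    · refine ⟨T, 𝟙 T, inferInstance, 0, zero_comp, 0, ?_⟩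
      exact ((FilD.grF A p).map_isZero (hzero n h)).eq_of_tgt _ _
    · haveI := hgπ n p
      obtain ⟨T', e, he, z, hz⟩ := surjective_up_to_refinements_of_epi ((FilD.grF A p).map (π n)) y
      refine ⟨T', e, he, z, ?_, 0, ?_⟩
      · show z ≫ (FilD.grF A p).map (K.d n (n + 1)) = 0
        haveI := hiso (n + 1) (by omega)
        rw [← cancel_mono ((FilD.grF A p).map (π (n + 1))), zero_comp, Category.assoc, ← Functor.map_comp,
          ← hd, Functor.map_comp, ← Category.assoc, ← hz, Category.assoc, hy, comp_zero]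
      · show e ≫ y = z ≫ (FilD.grF A p).map (π n) + 0 ≫ (FilD.grF A p).map (d (n - 1) n)
        rw [zero_comp, hz]
        exact (add_zero _).symm

end Groth.Agent.FilInjLib
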